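import Groth.Agent.GrModX.Comap
import Groth.Agent.Proj16.AwayZero
import Groth.Agent.AModX.Res

/-!
`M(n)~` along the inversion of an element of degree zero, on sections.
-/

noncomputable section

universe u

open CategoryTheory CategoryTheory.Limits AlgebraicGeometry TopologicalSpace DirectSum Opposite Groth.Agent.QCoh
open Groth.Agent.GrModX
open scoped HomogeneousIdeal

namespace Groth.Agent.TwAdj35

variable {A σ : Type u} [CommRing A] [SetLike σ A] [AddSubgroupClass σ A] {𝒜 : ℕ → σ} [GradedRing 𝒜]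
  {B σ' : Type u} [CommRing B] [SetLike σ' B] [AddSubgroupClass σ' B] {ℬ : ℕ → σ'} [GradedRing ℬ]
  {M τ : Type u} [AddCommGroup M] [Module A M] [SetLike τ M] [AddSubgroupClass τ M] {ℳ : ℕ → τ}
  [SetLike.GradedSMul 𝒜 ℳ] [DirectSum.Decomposition ℳ]
  {N τ' : Type u} [AddCommGroup N] [Module B N] [SetLike τ' N] [AddSubgroupClass τ' N] {𝒩 : ℕ → τ'}
  [SetLike.GradedSMul ℬ 𝒩] [DirectSum.Decomposition 𝒩]
  (ψ : 𝒜 →+*ᵍ ℬ) (hψ : ℬ₊ ≤ (𝒜₊).map ψ)
  (v : M →ₛₗ[ψ.toRingHom] N) (hv : ∀ (i : ℕ) (m : M), m ∈ ℳ i → v m ∈ 𝒩 i)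
  {c : 𝒜 0}
  (hsurj : ∀ (i : ℕ) (m' : N), m' ∈ 𝒩 i → ∃ (k : ℕ) (m : M), m ∈ ℳ i ∧ v m = ψ (c : A) ^ k • m')
  (hker : ∀ m : M, v m = 0 → ∃ k : ℕ, (c : A) ^ k • m = 0)

include hsurj hker in
theorem comap_app_bijective_mul (n : ℤ) {d : ℕ} (hd : 0 < d) {f g : A} (hg : g ∈ 𝒜 d) (hf : f = (c : A) * g) :
    Function.Bijective ((GrMod.comap ψ hψ v hv n).app (Proj.basicOpen 𝒜 f)) := by
  have hf' : f ∈ 𝒜 d := by
    have := SetLike.mul_mem_graded c.2 hg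
    rwa [zero_add, ← hf] at this
  have hψf : ψ f ∈ ℬ d := ψ.map_mem hf'
  constructor
  · rw [injective_iff_map_eq_zero]
    intro w hw
    obtain ⟨k, m, hm, hval⟩ := exists_frac 𝒜 ℳ hd hf' n w
    have hvm : Deg 𝒩 ((k : ℤ) * d + n) (v m) := by
      rcases hm with rfl | ⟨i, hi, hmem⟩
      · exact Or.inl (map_zero v)
      · exact Or.inr ⟨i, hi, hv i m hmem⟩
    obtain ⟨K, hK⟩ := exists_pow_smul_eq_zero_of_mk ℬ hd hψf hvm fun y hy => by
      refine ⟨⟨ψ (f ^ k), ?_⟩, ?_⟩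
      · rw [map_pow]; exact pow_notMem y.isPrime hy k
      · rw [← GrMod.locModMap_mk ψ hψ v y m ⟨f ^ k, pow_notMem (ProjectiveSpectrum.comap ψ hψ y).isPrime hy k⟩,
          ← hval ⟨ProjectiveSpectrum.comap ψ hψ y, hy⟩]
        refine (GrMod.comap_app_val ψ hψ v hv n _ w ⟨y, hy⟩).symm.trans ?_
        rw [hw]
        rfl
    obtain ⟨l, hl⟩ := hker (f ^ K • m) (by
      rw [map_smulₛₗ]
      change ψ (f ^ K) • v m = 0
      rw [map_pow, hK])
    have h0 : f ^ (K + l) • m = 0 := by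
      have := congrArg (g ^ l • ·) hl
      simp only [smul_smul, smul_zero] at this
      convert this using 2
      rw [hf, pow_add]; ring
    refine ext_val 𝒜 ℳ fun x => ?_
    exact (hval x).trans ((mk_eq_zero_iff 𝒜 x.1 _ _).mpr ⟨_, pow_notMem x.1.isPrime x.2 _, h0⟩)
  · intro w
    obtain ⟨k, m', hm', hval⟩ := exists_frac ℬ 𝒩 hd hψf n w
    rcases hm' with rfl | ⟨i, hi, hmem⟩
    · refine ⟨0, ext_val ℬ 𝒩 fun y => ?_⟩
      rw [map_zero]
      exact ((hval y).trans (LocalizedModule.zero_mk _)).symm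
    obtain ⟨e, m, hm, hvm⟩ := hsurj i m' hmem
    refine ⟨fracSect 𝒜 ℳ n _ (j := (k + e) * d) (pow_mem_deg 𝒜 hf' (k + e))
      (fun y => pow_notMem y.1.isPrime y.2 (k + e)) (m := g ^ e • m)
      (Or.inr ⟨e * d + i, by push_cast; linarith,
        SetLike.GradedSMul.smul_mem (pow_mem_deg 𝒜 hg e) hm⟩), ?_⟩
    refine ext_val ℬ 𝒩 fun y => ?_
    refine (GrMod.comap_app_val ψ hψ v hv n _ _ y).trans ?_
    rw [val_fracSect, GrMod.locModMap_mk]
    refine Eq.trans ?_ (hval y).symm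
    refine LocalizedModule.mk_eq.mpr ⟨1, ?_⟩
    simp only [one_smul, Submonoid.smul_def, map_pow, map_smulₛₗ, hvm]
    change ψ f ^ k • (ψ g) ^ e • ψ (c : A) ^ e • m' = ψ f ^ (k + e) • m'
    rw [smul_smul, smul_smul, hf, map_mul, pow_add, mul_pow]
    congr 1
    ring

lemma basicOpen_mul_le (a g : A) : Proj.basicOpen 𝒜 (a * g) ≤ Proj.basicOpen 𝒜 g :=
  (Proj.basicOpen_mul 𝒜 a g).le.trans inf_le_right

variable (hc : IsUnit (ψ (c : A)))
include hsurj hker hc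

/-- Bijectivity on sections over opens in the image. -/
theorem comap_app_bijective_of_invertsZero (n : ℤ) (U : (Proj 𝒜).Opens)
    (hU : ∀ x ∈ U, ∃ y : Proj ℬ, Proj.map ψ hψ y = x) :
    Function.Bijective ((GrMod.comap ψ hψ v hv n).app U) := by
  have hnh : ∀ x ∈ U, ∃ (f g : A) (d : ℕ), 0 < d ∧ g ∈ 𝒜 d ∧ f = (c : A) * g ∧ x ∈ Proj.basicOpen 𝒜 f ∧
      Proj.basicOpen 𝒜 f ≤ U := by
    intro x hx
    obtain ⟨g, d, hd, hg, hxg, hgU⟩ := exists_basicOpen_le 𝒜 (y := x) hx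
    obtain ⟨y, rfl⟩ := hU x hx
    refine ⟨_, g, d, hd, hg, rfl, fun hm => ?_, (basicOpen_mul_le _ g).trans hgU⟩
    rcases (ProjectiveSpectrum.comap ψ hψ y).isPrime.mem_or_mem hm with hm | hm
    · exact y.isPrime.ne_top (Ideal.eq_top_of_isUnit_mem _ hm hc)
    · exact hxg hm
  choose f g d hd hg hfg hxf hfU using hnh
  have inj : ∀ V ≤ U, Function.Injective ((GrMod.comap ψ hψ v hv n).app V) := by
    intro V hV
    rw [injective_iff_map_eq_zero]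
    intro s hs
    refine eq_zero_of_locally V s fun x hx => ?_
    obtain ⟨g', d', hd', hg', hxg, hgV⟩ := exists_basicOpen_le 𝒜 (y := x) hx
    obtain ⟨y, rfl⟩ := hU x (hV hx)
    refine ⟨_, homOfLE ((basicOpen_mul_le (c : A) g').trans hgV), fun hm => ?_,
      (comap_app_bijective_mul ψ hψ v hv hsurj hker n hd' hg' rfl).1 ?_⟩
    · rcases (ProjectiveSpectrum.comap ψ hψ y).isPrime.mem_or_mem hm with hm | hm
      · exact y.isPrime.ne_top (Ideal.eq_top_of_isUnit_mem _ hm hc)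
      · exact hxg hm
    · rw [map_app_comm, hs, map_zero, map_zero]
  refine ⟨inj U le_rfl, fun t => ?_⟩
  choose s hs using fun x : U => (comap_app_bijective_mul ψ hψ v hv hsurj hker n (hd x.1 x.2) (hg x.1 x.2)
    (hfg x.1 x.2)).2 (AModX.res ((Scheme.Modules.pushforward (Proj.map ψ hψ)).obj (GrMod.tilde ℬ 𝒩 n))
      (hfU x.1 x.2) t)
  let F : TopCat.Sheaf AddCommGrpCat (ProjectiveSpectrum.top 𝒜) :=
    ⟨(GrMod.tilde 𝒜 ℳ n).presheaf, (GrMod.tilde 𝒜 ℳ n).isSheaf⟩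
  obtain ⟨S, hS, -⟩ := F.existsUnique_gluing' (fun x : U => Proj.basicOpen 𝒜 (f x.1 x.2)) U
    (fun x => homOfLE (hfU x.1 x.2)) (fun x hx => Opens.mem_iSup.2 ⟨⟨x, hx⟩, hxf x hx⟩) s
    (fun x y => inj _ (inf_le_left.trans (hfU x.1 x.2)) (by
      refine (AModX.app_res _ inf_le_left _).trans ?_
      refine Eq.trans ?_ (AModX.app_res _ inf_le_right _).symm
      rw [hs, hs, AModX.res_res, AModX.res_res]))
  refine ⟨S, AModX.eq_of_locally _ _ fun x hx => ⟨_, hfU x hx, hxf x hx, ?_⟩⟩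
  rw [← AModX.app_res, show AModX.res (GrMod.tilde 𝒜 ℳ n) (hfU x hx) S = s ⟨x, hx⟩ from hS ⟨x, hx⟩]
  exact hs ⟨x, hx⟩

end Groth.Agent.TwAdj35
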