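import Mathlib.AlgebraicGeometry.Modules.Sheaf

/-!
When the inverse image adjunct of a map into a direct image along an open immersion is an isomorphism.
-/

universe u

set_option backward.isDefEq.respectTransparency false
set_option backward.isDefEq.respectTransparency.types false

open CategoryTheory CategoryTheory.Limits AlgebraicGeometry TopologicalSpace Opposite

noncomputable section

namespace Groth.Agent.TwAdj35

variable {X Y : Scheme.{u}} (f : X ⟶ Y) [IsOpenImmersion f] {F : Y.Modules} {G : X.Modules}
  (φ : F ⟶ (Scheme.Modules.pushforward f).obj G)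

/-- The adjunct is invertible if the map is bijective on sections over opens in the image. -/
theorem isIso_adjunct_of_bijective (h : ∀ U : Y.Opens, U ≤ f.opensRange → Function.Bijective (φ.app U)) :
    IsIso (((Scheme.Modules.pullbackPushforwardAdjunction f).homEquiv F G).symm φ) := by
  let a₁ := Scheme.Modules.restrictAdjunction f
  let a₂ := Scheme.Modules.pullbackPushforwardAdjunction f
  let e := a₁.leftAdjointUniq a₂
  let ψ := (a₁.homEquiv F G).symm φ
  have e1 : (a₂.homEquiv F G).symm φ = e.inv.app F ≫ ψ := by
    rw [Equiv.symm_apply_eq, Adjunction.homEquiv_unit, Functor.map_comp, ← Category.assoc]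
    rw [← Adjunction.unit_leftAdjointUniq_hom_app a₁ a₂ F, Category.assoc, Category.assoc,
      ← Functor.map_comp_assoc, Iso.hom_inv_id_app, CategoryTheory.Functor.map_id, Category.id_comp,
      ← Adjunction.homEquiv_unit, Equiv.apply_symm_apply]
  rw [e1]
  have : IsIso ψ := by
    refine Scheme.Modules.Hom.isIso_iff_isIso_app.mpr fun V => (ConcreteCategory.isIso_iff_bijective _).mpr ?_
    show Function.Bijective fun x => G.presheaf.map (eqToHom (f.preimage_image_eq V).symm).op
      (φ.app (f ''ᵁ V) x)
    exact (ConcreteCategory.bijective_of_isIso
      (G.presheaf.map (eqToHom (f.preimage_image_eq V).symm).op)).comp (h _ (f.image_le_opensRange V))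
  infer_instance

end Groth.Agent.TwAdj35
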