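import Groth.Prelude.Def_GrTwist
import Groth.Agent.GrModX.Basic
import Groth.Agent.Proj16.ConeData
import Groth.Agent.Proj16.AwayZero
import Groth.Agent.TwAdj35.Adjunct

/-!
Bijectivity of the comparison of twisting sheaves along a homomorphism of graded rings.
-/

universe u

set_option backward.isDefEq.respectTransparency false
set_option backward.isDefEq.respectTransparency.types false

open CategoryTheory CategoryTheory.Limits AlgebraicGeometry TopologicalSpace Opposite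
open Groth.Agent.GrModX (Deg)
open scoped HomogeneousIdeal

noncomputable section

namespace Groth.Agent.TwAdj35

variable {A σ : Type u} [CommRing A] [SetLike σ A] [AddSubgroupClass σ A] {𝒜 : ℕ → σ} [GradedRing 𝒜]
  {B τ : Type u} [CommRing B] [SetLike τ B] [AddSubgroupClass τ B] {ℬ : ℕ → τ} [GradedRing ℬ]

lemma mul_notMem {x : ProjectiveSpectrum 𝒜} {a b : A} (ha : a ∉ x.asHomogeneousIdeal)
    (hb : b ∉ x.asHomogeneousIdeal) : a * b ∉ x.asHomogeneousIdeal :=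
  fun h => (x.isPrime.mem_or_mem h).elim ha hb

/-- An element of degree-`n` fractions is one fraction. -/
theorem exists_repr (n : ℤ) (x : ProjectiveSpectrum 𝒜) {q : GrTwist.Loc 𝒜 x} (hq : q ∈ GrTwist.twistAt 𝒜 n x) :
    ∃ (j : ℕ) (s : A) (_ : s ∈ 𝒜 j) (hs : s ∉ x.asHomogeneousIdeal) (a : A),
      Deg 𝒜 ((j : ℤ) + n) a ∧ q = Localization.mk a ⟨s, hs⟩ := by
  induction hq using Submodule.span_induction with
  | mem q h =>
    obtain ⟨i, j, a, s, hs, hij, rfl⟩ := h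
    exact ⟨j, s, s.2, hs, a, Or.inr ⟨i, hij, a.2⟩, rfl⟩
  | zero =>
    exact ⟨0, 1, SetLike.GradedOne.one_mem, fun h => x.isPrime.ne_top ((Ideal.eq_top_iff_one _).mpr h), 0,
      Deg.zero _, (Localization.mk_zero _).symm⟩
  | add q q' _ _ h h' =>
    obtain ⟨j, s, hs, hsx, m, hm, rfl⟩ := h
    obtain ⟨j', t, ht, htx, m', hm', rfl⟩ := h'
    refine ⟨j + j', s * t, SetLike.mul_mem_graded hs ht, mul_notMem hsx htx, s • m' + t • m,
      ((hm'.smul 𝒜 hs).congr (by push_cast; ring)).add ((hm.smul 𝒜 ht).congr (by push_cast; ring)), ?_⟩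
    rw [Localization.add_mk]
    rfl
  | smul c q _ h =>
    obtain ⟨j, s, hs, hsx, m, hm, rfl⟩ := h
    obtain ⟨⟨e, ⟨a, ha⟩, ⟨b, hb⟩, hbx⟩, rfl⟩ := HomogeneousLocalization.mk_surjective c
    refine ⟨e + j, b * s, SetLike.mul_mem_graded hb hs, mul_notMem hbx hsx,
      a • m, (hm.smul 𝒜 ha).congr (by push_cast; ring), ?_⟩
    rw [Algebra.smul_def, HomogeneousLocalization.algebraMap_apply, HomogeneousLocalization.val_mk,
      Localization.mk_mul]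
    rfl

theorem mk_mem (n : ℤ) {x : ProjectiveSpectrum 𝒜} {j : ℕ} {s : A} (hs : s ∈ 𝒜 j) (hsx : s ∉ x.asHomogeneousIdeal)
    {a : A} (ha : Deg 𝒜 ((j : ℤ) + n) a) :
    (Localization.mk a ⟨s, hsx⟩ : GrTwist.Loc 𝒜 x) ∈ GrTwist.twistAt 𝒜 n x := by
  rcases ha with rfl | ⟨i, hi, ha⟩
  · rw [Localization.mk_zero]; exact zero_mem _
  · exact Submodule.subset_span ⟨i, j, ⟨a, ha⟩, ⟨s, hs⟩, hsx, hi, rfl⟩

variable (ψ : 𝒜 →+*ᵍ ℬ) (hψ : ℬ₊ ≤ (𝒜₊).map ψ)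

/-- The comparison is bijective on degree-`n` fractions. -/
def StalkBij (n : ℤ) (y : ProjectiveSpectrum ℬ) : Prop :=
  (∀ q ∈ GrTwist.twistAt 𝒜 n (ProjectiveSpectrum.comap ψ hψ y), GrTwist.locMap ψ hψ y q = 0 → q = 0) ∧
    ∀ r ∈ GrTwist.twistAt ℬ n y, ∃ q ∈ GrTwist.twistAt 𝒜 n (ProjectiveSpectrum.comap ψ hψ y),
      GrTwist.locMap ψ hψ y q = r

variable {ψ hψ}

/-- Surjectivity from a scaling into the image. -/
lemma exists_preimage_of_scale {n : ℤ} {y : ProjectiveSpectrum ℬ} {j : ℕ} {t b w : B} (htx : t ∉ y.asHomogeneousIdeal)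
    (hw : w ∉ y.asHomogeneousIdeal) {a s : A} {e : ℕ} (hs : s ∈ 𝒜 e) (ha : Deg 𝒜 ((e : ℤ) + n) a)
    (has : ψ s = w * t) (hab : ψ a = w * b) (_ : j = j) :
    ∃ q ∈ GrTwist.twistAt 𝒜 n (ProjectiveSpectrum.comap ψ hψ y),
      GrTwist.locMap ψ hψ y q = Localization.mk b ⟨t, htx⟩ := by
  have hsx : s ∉ (ProjectiveSpectrum.comap ψ hψ y).asHomogeneousIdeal := fun h =>
    mul_notMem hw htx (has ▸ (show ψ s ∈ y.asHomogeneousIdeal from h))
  refine ⟨_, mk_mem n hs hsx ha, ?_⟩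
  rw [GrTwist.locMap_mk, Localization.mk_eq_mk_iff, Localization.r_iff_exists]
  exact ⟨1, by simp only [hab, has, Submonoid.coe_one, one_mul]; ring⟩

/-- Inverting an element of degree zero. -/
theorem stalkBij_of_invertsZero {c : 𝒜 0} (h : Proj16.InvertsZero ψ c) (n : ℤ) (y : ProjectiveSpectrum ℬ) :
    StalkBij ψ hψ n y := by
  have hcy : ψ (c : A) ∉ y.asHomogeneousIdeal := fun hm =>
    y.isPrime.ne_top (Ideal.eq_top_of_isUnit_mem _ hm h.isUnit)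
  refine ⟨fun q hq h0 => ?_, fun r hr => ?_⟩
  · obtain ⟨j, s, hs, hsx, a, ha, rfl⟩ := exists_repr n _ hq
    rw [GrTwist.locMap_mk, Localization.mk_eq_mk', IsLocalization.mk'_eq_zero_iff] at h0
    obtain ⟨⟨v, hv⟩, hva⟩ := h0
    obtain ⟨e, he⟩ : ∃ e, GradedRing.proj ℬ e v ∉ y.asHomogeneousIdeal := by
      by_contra! hall
      exact hv (Proj16.mem_of_forall_proj_mem ℬ (s := y.asHomogeneousIdeal.toIdeal) hall)
    obtain ⟨k, w, hw, hvw⟩ := h.surj e _ (Proj16.proj_mem ℬ e v)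
    have hwa : ψ (w * a) = 0 := by
      rcases ha with rfl | ⟨i, hi, ha⟩
      · rw [mul_zero, map_zero]
      · have := GrModX.proj_smul_eq_zero ℬ (ℳ := ℬ) (ψ.map_mem ha) (c := v) hva e
        rw [map_mul, ← hvw, mul_right_comm]
        exact (congrArg (· * ψ (c : A) ^ k) this).trans (zero_mul _)
    obtain ⟨l, hl⟩ := h.exists_of_eq_zero _ hwa
    rw [Localization.mk_eq_mk', IsLocalization.mk'_eq_zero_iff]
    refine ⟨⟨(c : A) ^ l * w, fun hm => ?_⟩, by rw [mul_assoc]; exact hl⟩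
    rcases (ProjectiveSpectrum.comap ψ hψ y).isPrime.mem_or_mem hm with hm | hm
    · exact hcy (y.isPrime.mem_of_pow_mem l (by rw [← map_pow]; exact hm))
    · exact mul_notMem he (fun hh => hcy (y.isPrime.mem_of_pow_mem k hh)) (by rw [hvw]; exact hm)
  · obtain ⟨j, t, ht, htx, b, hb, rfl⟩ := exists_repr n y hr
    obtain ⟨l, s, hs, hts⟩ := h.surj j t ht
    rcases hb with rfl | ⟨i, hi, hb⟩
    · exact ⟨0, zero_mem _, by rw [map_zero, Localization.mk_zero]⟩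
    obtain ⟨k, a, ha, hba⟩ := h.surj i b hb
    refine exists_preimage_of_scale (j := j) htx (w := ψ (c : A) ^ (k + l))
      (fun hm => hcy (y.isPrime.mem_of_pow_mem _ hm)) (a := (c : A) ^ l * a) (s := (c : A) ^ k * s)
      (e := j) ?_ ?_ ?_ ?_ rfl
    · have := SetLike.mul_mem_graded (SetLike.pow_mem_graded k c.2) hs
      rwa [smul_zero, zero_add] at this
    · refine Or.inr ⟨i, hi, ?_⟩
      have := SetLike.mul_mem_graded (SetLike.pow_mem_graded l c.2) ha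
      rwa [smul_zero, zero_add] at this
    · rw [map_mul, map_pow, ← hts, pow_add]; ring
    · rw [map_mul, map_pow, ← hba, pow_add]; ring

/-- Bijectivity in high degrees. -/
theorem stalkBij_of_bijOn (d₀ : ℕ) (h : ∀ d : ℕ, d₀ ≤ d → Set.BijOn ψ (𝒜 d : Set A) (ℬ d : Set B))
    (n : ℤ) (y : ProjectiveSpectrum ℬ) : StalkBij ψ hψ n y := by
  obtain ⟨d, f, hd, hf, hfx, -⟩ := Proj16.exists_basicOpen_subset (𝒜 := 𝒜) isOpen_univ
    (Set.mem_univ (ProjectiveSpectrum.comap ψ hψ y))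
  have hfy : ψ f ^ d₀ ∉ y.asHomogeneousIdeal := fun hm => hfx (y.isPrime.mem_of_pow_mem d₀ hm)
  have hdeg : ∀ {i : ℕ}, d₀ ≤ d₀ • d + i := fun {i} => by
    have : d₀ ≤ d₀ * d := Nat.le_mul_of_pos_right _ hd
    rw [smul_eq_mul]; omega
  have hlift : ∀ {i : ℕ} {b : B}, b ∈ ℬ i → ∃ a ∈ 𝒜 (d₀ • d + i), ψ a = ψ f ^ d₀ * b := fun {i b} hb =>
    (h _ hdeg).surjOn (SetLike.mul_mem_graded (SetLike.pow_mem_graded d₀ (ψ.map_mem hf)) hb)
  refine ⟨fun q hq h0 => ?_, fun r hr => ?_⟩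
  · obtain ⟨j, s, hs, hsx, a, ha, rfl⟩ := exists_repr n _ hq
    rcases ha with rfl | ⟨i, hi, ha⟩
    · exact Localization.mk_zero _
    rw [GrTwist.locMap_mk, Localization.mk_eq_mk', IsLocalization.mk'_eq_zero_iff] at h0
    obtain ⟨⟨v, hv⟩, hva⟩ := h0
    obtain ⟨e, he⟩ : ∃ e, GradedRing.proj ℬ e v ∉ y.asHomogeneousIdeal := by
      by_contra! hall
      exact hv (Proj16.mem_of_forall_proj_mem ℬ (s := y.asHomogeneousIdeal.toIdeal) hall)
    have hkill : GradedRing.proj ℬ e v * ψ a = 0 := GrModX.proj_smul_eq_zero ℬ (ℳ := ℬ) (ψ.map_mem ha) hva e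
    obtain ⟨w, hw, hwv⟩ := hlift (Proj16.proj_mem ℬ e v)
    have hwa : w * a = 0 := (h _ (hdeg.trans (Nat.le_add_right _ i))).injOn (SetLike.mul_mem_graded hw ha)
      (zero_mem _) (by rw [map_zero, map_mul, hwv, mul_assoc, hkill, mul_zero])
    rw [Localization.mk_eq_mk', IsLocalization.mk'_eq_zero_iff]
    exact ⟨⟨w, fun hm => mul_notMem hfy he (hwv ▸ (show ψ w ∈ y.asHomogeneousIdeal from hm))⟩, hwa⟩
  · obtain ⟨j, t, ht, htx, b, hb, rfl⟩ := exists_repr n y hr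
    rcases hb with rfl | ⟨i, hi, hb⟩
    · exact ⟨0, zero_mem _, by rw [map_zero, Localization.mk_zero]⟩
    obtain ⟨s, hs, hst⟩ := hlift ht
    obtain ⟨a, ha, hab⟩ := hlift hb
    exact exists_preimage_of_scale (j := j) htx hfy hs (Or.inr ⟨_, by push_cast; omega, ha⟩) hst hab rfl

variable (ψ hψ) in
/-- Bijectivity on sections over opens in the image. -/
theorem comap_app_bijective [IsOpenImmersion (Proj.map ψ hψ)] (n : ℤ) (h : ∀ y, StalkBij ψ hψ n y)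
    (U : (Proj 𝒜).Opens) (hU : U ≤ (Proj.map ψ hψ).opensRange) :
    Function.Bijective ((GrTwist.comap ψ hψ n).app U) := by
  classical
  set f := Proj.map ψ hψ
  constructor
  · intro s s' e
    refine Subtype.ext (funext fun ⟨x, hx⟩ => Subtype.ext ?_)
    obtain ⟨y, rfl⟩ := hU hx
    have e' : GrTwist.locMap ψ hψ y ((s : GrTwist.sectN (𝒜 := 𝒜) n (op U)).1 ⟨f y, hx⟩).1 =
        GrTwist.locMap ψ hψ y ((s' : GrTwist.sectN (𝒜 := 𝒜) n (op U)).1 ⟨f y, hx⟩).1 :=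
      congrArg (fun t : GrTwist.sectN (𝒜 := ℬ) n (op (f ⁻¹ᵁ U)) => (t.1 ⟨y, hx⟩).1) e
    refine sub_eq_zero.mp ((h y).1 _ (sub_mem ((s : GrTwist.sectN (𝒜 := 𝒜) n (op U)).1 ⟨f y, hx⟩).2
      ((s' : GrTwist.sectN (𝒜 := 𝒜) n (op U)).1 ⟨f y, hx⟩).2) ?_)
    rw [map_sub]
    exact sub_eq_zero.mpr e'
  · intro t
    let T : GrTwist.sectN (𝒜 := ℬ) n (op (f ⁻¹ᵁ U)) := t
    have hpt : ∀ x : U, ∃ y : ProjectiveSpectrum ℬ, ProjectiveSpectrum.comap ψ hψ y = x.1 := fun x => hU x.2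
    choose pt hpt using hpt
    have hex : ∀ x : U, ∃ q : GrTwist.twistAt 𝒜 n x.1, ∀ (y : ProjectiveSpectrum ℬ)
        (e : ProjectiveSpectrum.comap ψ hψ y = x.1),
        GrTwist.locMap ψ hψ y (cast (congrArg (GrTwist.Loc 𝒜) e.symm) q.1) =
          (T.1 ⟨y, show f y ∈ U from (show f y = x.1 from e).symm ▸ x.2⟩).1 := by
      intro x
      obtain ⟨x, hx⟩ := x
      obtain ⟨y₀, rfl⟩ := hU hx
      obtain ⟨q, hq, hqr⟩ := (h y₀).2 _ (T.1 ⟨y₀, hx⟩).2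
      refine ⟨⟨q, hq⟩, fun y e => ?_⟩
      obtain rfl : y = y₀ := f.isOpenEmbedding.injective e
      exact hqr
    choose q hq using hex
    have hval : ∀ (y : ProjectiveSpectrum ℬ) (hy : f y ∈ U),
        GrTwist.locMap ψ hψ y (q ⟨f y, hy⟩).1 = (T.1 ⟨y, hy⟩).1 := fun y hy => hq ⟨f y, hy⟩ y rfl
    refine ⟨(⟨q, fun x => ?_⟩ : GrTwist.sectN (𝒜 := 𝒜) n (op U)),
      Subtype.ext (funext fun y => Subtype.ext (hval y.1 y.2))⟩
    obtain ⟨x, hx⟩ := x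
    obtain ⟨y₀, rfl⟩ := hU hx
    obtain ⟨V, hyV, iV, i, j, b, t', ht', hij, hfr⟩ := T.2 ⟨y₀, hx⟩
    obtain ⟨e, s, hs, hsx, a, ha, hqe⟩ := exists_repr n _ (q ⟨f y₀, hx⟩).2
    have h0 : GrTwist.locMap ψ hψ y₀ (Localization.mk a ⟨s, hsx⟩) = (T.1 ⟨y₀, hx⟩).1 :=
      (congrArg (GrTwist.locMap ψ hψ y₀) hqe.symm).trans (hval y₀ hx)
    rw [GrTwist.locMap_mk, show (T.1 ⟨y₀, hx⟩).1 = _ from hfr ⟨y₀, hyV⟩, Localization.mk_eq_mk_iff,
      Localization.r_iff_exists] at h0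
    obtain ⟨⟨v, hv⟩, hva⟩ := h0
    let V' : (Proj ℬ).Opens := V ⊓ ProjectiveSpectrum.basicOpen ℬ v ⊓ ProjectiveSpectrum.basicOpen ℬ (ψ s)
    have hV'U : f ''ᵁ V' ≤ U := by
      rintro _ ⟨z, hz, rfl⟩
      exact iV.le hz.1.1
    obtain ⟨i', hi', ha'⟩ : ∃ i' : ℕ, ((i' : ℤ) = e + n ∨ a = 0) ∧ a ∈ 𝒜 i' := by
      rcases ha with rfl | ⟨i', hi', ha⟩
      · exact ⟨0, Or.inr rfl, zero_mem _⟩
      · exact ⟨i', Or.inl hi', ha⟩
    refine ⟨f ''ᵁ V', ⟨y₀, ⟨⟨hyV, hv⟩, hsx⟩, rfl⟩, homOfLE hV'U, i', e, ⟨a, ha'⟩, ⟨s, hs⟩, ?_, hi', ?_⟩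
    · rintro ⟨_, z, hz, rfl⟩
      exact hz.2
    · rintro ⟨_, z, hz, rfl⟩
      have hzx : (s : A) ∉ (ProjectiveSpectrum.comap ψ hψ z).asHomogeneousIdeal := hz.2
      refine sub_eq_zero.mp ((h z).1 _ (sub_mem (q ⟨f z, _⟩).2 (mk_mem n hs hzx ha)) ?_)
      rw [map_sub, sub_eq_zero]
      refine (hval z (hV'U ⟨z, hz, rfl⟩)).trans ?_
      refine (hfr ⟨z, hz.1.1⟩).trans ?_
      rw [GrTwist.locMap_mk, Localization.mk_eq_mk_iff, Localization.r_iff_exists]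
      exact ⟨⟨v, hz.1.2⟩, hva.symm⟩

/-- The adjunct of the comparison is invertible. -/
theorem isIso_adjunct_comap [IsOpenImmersion (Proj.map ψ hψ)] (n : ℤ) (h : ∀ y, StalkBij ψ hψ n y) :
    IsIso (((Scheme.Modules.pullbackPushforwardAdjunction (Proj.map ψ hψ)).homEquiv _ _).symm
      (GrTwist.comap ψ hψ n)) :=
  isIso_adjunct_of_bijective _ _ (comap_app_bijective ψ hψ n h)

end Groth.Agent.TwAdj35
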