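import Groth.Agent.TwAdj35.BaseChange

/-!
Base change of sections over a pair of affine opens, and its transport along open immersions.
-/

universe u

set_option backward.isDefEq.respectTransparency false
set_option backward.isDefEq.respectTransparency.types false

open CategoryTheory CategoryTheory.Limits AlgebraicGeometry TopologicalSpace Opposite

noncomputable section

namespace Groth.Agent.TwAdj35

variable {X Y : Scheme.{u}} (f : X ⟶ Y) {F : Y.Modules} {G : X.Modules}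
  (φ : F ⟶ (Scheme.Modules.pushforward f).obj G)

/-- The sections of the target over `W` are the base change of those over `V`. -/
def IsSectBCLE (V : Y.Opens) (W : X.Opens) (e : W ≤ f ⁻¹ᵁ V) : Prop :=
  ∀ (Q : Type u) [AddCommGroup Q] [Module Γ(X, W) Q] (h : Γ(F, V) →+ Q),
    (∀ (r : Γ(Y, V)) x, h (r • x) = f.appLE V W e r • h x) →
      ∃ L : Γ(G, W) →ₗ[Γ(X, W)] Q, (∀ x, L (G.presheaf.map (homOfLE e).op (φ.app V x)) = h x) ∧
        ∀ L' : Γ(G, W) →ₗ[Γ(X, W)] Q,
          (∀ x, L' (G.presheaf.map (homOfLE e).op (φ.app V x)) = h x) → L' = L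

theorem isSectBCLE_of_eq {V : Y.Opens} {W : X.Opens} (hW : W = f ⁻¹ᵁ V) (e : W ≤ f ⁻¹ᵁ V)
    (h : IsSectBC f φ V) : IsSectBCLE f φ V W e := by
  subst hW
  intro Q _ _ k hk
  obtain ⟨L, hL, hu⟩ := h Q k fun r x => by rw [hk, Scheme.Hom.app_eq_appLE]
  have e1 : ∀ z, G.presheaf.map (homOfLE e).op z = z := fun z => QCoh.map_id' _ z
  exact ⟨L, fun x => (congrArg L (e1 _)).trans (hL x),
    fun L' hL' => hu L' fun x => (congrArg L' (e1 _)).symm.trans (hL' x)⟩

/-- The adjunct is invertible if the sections over affine pairs covering the source are base changes. -/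
theorem isIso_adjunct_of_isSectBCLE (hF : Coh.IsQCoh F) (hG : Coh.IsQCoh G) {ι : Type*} (V : ι → Y.Opens)
    (W : ι → X.Opens) (e : ∀ i, W i ≤ f ⁻¹ᵁ V i) (hV : ∀ i, IsAffineOpen (V i)) (hW : ∀ i, IsAffineOpen (W i))
    (hcov : ∀ x : X, ∃ i, x ∈ W i) (h : ∀ i, IsSectBCLE f φ (V i) (W i) (e i)) :
    IsIso (((Scheme.Modules.pullbackPushforwardAdjunction f).homEquiv F G).symm φ) := by
  choose i hi using hcov
  refine isIso_of_bijective_cover (QCoh.isQCoh_pullback f hF) hG _ (fun x => W (i x))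
    (fun x => hW _) hi fun x => ?_
  set j := i x
  letI := (f.appLE (V j) (W j) (e j)).hom.toAlgebra
  let P := (Scheme.Modules.pullback f).obj F
  letI : Module Γ(Y, V j) Γ(P, W j) := Module.compHom _ (f.appLE (V j) (W j) (e j)).hom
  have : IsScalarTower Γ(Y, V j) Γ(X, W j) Γ(P, W j) :=
    IsScalarTower.of_algebraMap_smul fun r z => rfl
  let η := fun x : Γ(F, V j) => P.presheaf.map (homOfLE (e j)).op
    (((Scheme.Modules.pullbackPushforwardAdjunction f).unit.app F).app (V j) x)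
  have ηsmul : ∀ (r : Γ(Y, V j)) x, η (r • x) = f.appLE (V j) (W j) (e j) r • η x := fun r x => by
    show P.presheaf.map _ _ = _
    rw [Scheme.Modules.Hom.app_smul]
    exact P.val.map_smul (homOfLE (e j)).op (f.app (V j) r) _
  let l : Γ(F, V j) →ₗ[Γ(Y, V j)] Γ(P, W j) :=
    { toFun := η
      map_add' := fun a b => by simp only [η, map_add]
      map_smul' := ηsmul }
  have hbc := QCoh.isBaseChange_pullback (hV _) f (hW _) hF (e j) (fun r => rfl) l fun x => rfl
  let a := ((Scheme.Modules.pullbackPushforwardAdjunction f).homEquiv F G).symm φ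
  let T : Γ(P, W j) →ₗ[Γ(X, W j)] Γ(G, W j) :=
    { toFun := a.app (W j), map_add' := map_add _, map_smul' := fun r y => Scheme.Modules.Hom.app_smul _ _ _ }
  have hT : ∀ x, T (η x) = G.presheaf.map (homOfLE (e j)).op (φ.app (V j) x) := fun x => by
    show a.app (W j) (P.presheaf.map _ _) = _
    rw [QCoh.map_app_comm, app_adjunct]
  obtain ⟨L, hL, -⟩ := h j Γ(P, W j) (AddMonoidHom.mk' η fun a b => by simp only [η, map_add]) ηsmul
  obtain ⟨L₀, -, huniq⟩ := h j Γ(G, W j)
    (AddMonoidHom.mk' (fun x => G.presheaf.map (homOfLE (e j)).op (φ.app (V j) x)) fun a b => by simp only [map_add])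
    fun r x => by
      show G.presheaf.map _ _ = _
      rw [Scheme.Modules.Hom.app_smul]
      exact G.val.map_smul (homOfLE (e j)).op (f.app (V j) r) _
  have e1 : T.comp L = LinearMap.id :=
    (huniq _ fun x => by rw [LinearMap.comp_apply, hL]; exact hT x).trans
      (huniq _ fun x => rfl).symm
  have e2 : ∀ y, L (T y) = y := fun y =>
    hbc.inductionOn y (fun y => L (T y) = y) (by rw [map_zero, map_zero])
      (fun x => (congrArg L (hT x)).trans (hL x))
      (fun s z hz => by rw [T.map_smul, L.map_smul, hz]) fun z z' hz hz' => by rw [map_add, map_add, hz, hz']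
  exact ⟨Function.LeftInverse.injective e2, fun y => ⟨L y, LinearMap.congr_fun e1 y⟩⟩

/-- Transport of base change of sections from charts. -/
theorem isSectBCLE_of_charts {X₀ Y₀ : Scheme.{u}} (m : X₀ ⟶ Y₀) (eY : Y₀ ⟶ Y) [IsOpenImmersion eY]
    (eX : X₀ ⟶ X) [IsOpenImmersion eX] (sq : eX ≫ f = m ≫ eY)
    {F₀ : Y₀.Modules} {G₀ : X₀.Modules} (μ : F₀ ⟶ (Scheme.Modules.pushforward m).obj G₀)
    (lF : F ⟶ (Scheme.Modules.pushforward eY).obj F₀) (lG : G ⟶ (Scheme.Modules.pushforward eX).obj G₀)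
    {V : Y.Opens} {W : X.Opens} (e : W ≤ f ⁻¹ᵁ V) (hV : V ≤ eY.opensRange) (hW : W ≤ eX.opensRange)
    (e₀ : eX ⁻¹ᵁ W ≤ m ⁻¹ᵁ (eY ⁻¹ᵁ V))
    (hlF : Function.Bijective (lF.app V)) (hlG : Function.Bijective (lG.app W))
    (hcomm : ∀ x, G₀.presheaf.map (homOfLE e₀).op (μ.app (eY ⁻¹ᵁ V) (lF.app V x)) =
      lG.app W (G.presheaf.map (homOfLE e).op (φ.app V x)))
    (h : IsSectBCLE m μ (eY ⁻¹ᵁ V) (eX ⁻¹ᵁ W) e₀) : IsSectBCLE f φ V W e := by
  intro Q _ _ k hk
  haveI : IsIso (eY.app V) := eY.isIso_app V hV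
  haveI : IsIso (eX.app W) := eX.isIso_app W hW
  let bX : Γ(X, W) ≃+* Γ(X₀, eX ⁻¹ᵁ W) := (asIso (eX.app W)).commRingCatIsoToRingEquiv
  let bY : Γ(Y, V) ≃+* Γ(Y₀, eY ⁻¹ᵁ V) := (asIso (eY.app V)).commRingCatIsoToRingEquiv
  letI : Module Γ(X₀, eX ⁻¹ᵁ W) Q := Module.compHom Q bX.symm.toRingHom
  let pF : Γ(F, V) ≃+ Γ(F₀, eY ⁻¹ᵁ V) := AddEquiv.ofBijective (lF.app V).hom hlF
  let pG : Γ(G, W) ≃+ Γ(G₀, eX ⁻¹ᵁ W) := AddEquiv.ofBijective (lG.app W).hom hlG
  have hFs : ∀ (r : Γ(Y, V)) x, pF (r • x) = bY r • pF x := fun r x => Scheme.Modules.Hom.app_smul lF r x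
  have hGs : ∀ (r : Γ(X, W)) x, pG (r • x) = bX r • pG x := fun r x => Scheme.Modules.Hom.app_smul lG r x
  have hring : ∀ r : Γ(Y, V), m.appLE _ _ e₀ (bY r) = bX (f.appLE V W e r) := fun r => by
    show (eY.app V ≫ m.appLE _ _ e₀) r = (f.appLE V W e ≫ eX.app W) r
    rw [Scheme.Hom.app_eq_appLE, Scheme.Hom.app_eq_appLE, Scheme.Hom.appLE_comp_appLE,
      Scheme.Hom.appLE_comp_appLE]
    simp only [sq]
  obtain ⟨L, hL, hu⟩ := h Q (k.comp pF.symm.toAddMonoidHom) fun c z => by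
    obtain ⟨r, rfl⟩ := bY.surjective c
    obtain ⟨x, rfl⟩ := pF.surjective z
    show k (pF.symm (bY r • pF x)) = bX.symm (m.appLE _ _ e₀ (bY r)) • k (pF.symm (pF x))
    rw [← hFs, pF.symm_apply_apply, pF.symm_apply_apply, hk, hring, bX.symm_apply_apply]
  refine ⟨{ toFun := fun z => L (pG z), map_add' := fun a b => by rw [map_add, map_add],
            map_smul' := fun r z => ?_ }, fun x => ?_, fun L' hL' => ?_⟩
  · rw [hGs, L.map_smul]
    show bX.symm (bX r) • L (pG z) = r • L (pG z)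
    rw [bX.symm_apply_apply]
  · show L (lG.app W _) = k x
    rw [← hcomm]
    exact (hL (pF x)).trans (congrArg k (pF.symm_apply_apply x))
  · let L'' : Γ(G₀, eX ⁻¹ᵁ W) →ₗ[Γ(X₀, eX ⁻¹ᵁ W)] Q :=
      { toFun := fun z => L' (pG.symm z)
        map_add' := fun a b => by rw [map_add, map_add]
        map_smul' := fun c z => by
          obtain ⟨r, rfl⟩ := bX.surjective c
          obtain ⟨z, rfl⟩ := pG.surjective z
          show L' (pG.symm (bX r • pG z)) = bX.symm (bX r) • L' (pG.symm (pG z))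
          rw [← hGs, pG.symm_apply_apply, pG.symm_apply_apply, bX.symm_apply_apply, L'.map_smul] }
    have := hu L'' fun z => by
      obtain ⟨x, rfl⟩ := pF.surjective z
      show L' (pG.symm (G₀.presheaf.map (homOfLE e₀).op (μ.app _ (lF.app V x)))) = k (pF.symm (pF x))
      rw [hcomm, pF.symm_apply_apply]
      exact (congrArg L' (pG.symm_apply_apply _)).trans (hL' x)
    refine LinearMap.ext fun z => ?_
    show L' z = L (pG z)
    rw [← this]
    exact congrArg L' (pG.symm_apply_apply z).symm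

end Groth.Agent.TwAdj35
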