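import Groth.Prelude.Def_RelProj3
import Groth.Agent.GrModX.QCohTilde

/-!
Dehomogenization at an element of degree one.
-/

universe u

set_option backward.isDefEq.respectTransparency false
set_option backward.isDefEq.respectTransparency.types false

open CategoryTheory AlgebraicGeometry TopologicalSpace Opposite DirectSum HomogeneousLocalization
open Groth.Agent.GrModX (Deg oval)

noncomputable section

namespace Groth.Agent.TwAdj35

variable {A σ : Type u} [CommRing A] [SetLike σ A] [AddSubgroupClass σ A] (𝒜 : ℕ → σ) [GradedRing 𝒜]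
  {f : A} (hf : f ∈ 𝒜 1)

include hf in
lemma f_pow_mem (k : ℕ) : f ^ k ∈ 𝒜 k := by simpa using SetLike.pow_mem_graded k hf

/-- `a / f ^ i` for `a` of degree `i`. -/
def chiComp (i : ℕ) : 𝒜 i →+ Away 𝒜 f where
  toFun a := Away.mk 𝒜 hf i a.1 (by simp)
  map_zero' := val_injective _ (by rw [Away.val_mk, HomogeneousLocalization.val_zero]; exact Localization.mk_zero _)
  map_add' a b := val_injective _ (by
    rw [HomogeneousLocalization.val_add, Away.val_mk, Away.val_mk, Away.val_mk, Localization.add_mk,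
      Localization.mk_eq_mk_iff, Localization.r_iff_exists]
    exact ⟨1, by simp only [Submonoid.coe_one, one_mul, Submonoid.coe_mul, AddMemClass.coe_add]; ring⟩)

/-- `A → A_(f)`. -/
def chi : A →+* Γ(Proj 𝒜, Proj.basicOpen 𝒜 f) :=
  (Proj.awayToSection 𝒜 f).hom.comp ((DirectSum.toSemiring (chiComp 𝒜 hf)
    (val_injective _ (by
      show (Away.mk 𝒜 hf 0 _ _).val = _
      rw [Away.val_mk, HomogeneousLocalization.val_one, ← Localization.mk_one, Localization.mk_eq_mk_iff,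
        Localization.r_iff_exists]
      exact ⟨1, by simp [SetLike.coe_gOne]⟩))
    (fun {i j} a b => val_injective _ (by
      show (Away.mk 𝒜 hf (i + j) _ _).val = (Away.mk 𝒜 hf i _ _ * Away.mk 𝒜 hf j _ _).val
      rw [Away.val_mk, HomogeneousLocalization.val_mul, Away.val_mk, Away.val_mk, Localization.mk_mul,
        Localization.mk_eq_mk_iff, Localization.r_iff_exists]
      exact ⟨1, by simp [SetLike.coe_gMul, pow_add]⟩))).comp (DirectSum.decomposeRingEquiv 𝒜).toRingHom)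

lemma chi_homogeneous {i : ℕ} {a : A} (ha : a ∈ 𝒜 i) :
    chi 𝒜 hf a = (Proj.awayToSection 𝒜 f).hom (Away.mk 𝒜 hf i a (by simpa)) := by
  simp only [chi, RingHom.comp_apply, RingEquiv.toRingHom_eq_coe, RingHom.coe_coe]
  rw [show DirectSum.decomposeRingEquiv 𝒜 a = DirectSum.decompose 𝒜 a from rfl,
    DirectSum.decompose_of_mem 𝒜 ha, DirectSum.toSemiring_of]
  rfl

lemma oval_chi {i : ℕ} {a : A} (ha : a ∈ 𝒜 i) (y : Proj.basicOpen 𝒜 f) :
    (oval 𝒜 (chi 𝒜 hf a) y).val = Localization.mk a ⟨f ^ i, GrModX.pow_notMem y.1.isPrime y.2 i⟩ := by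
  rw [chi_homogeneous 𝒜 hf ha]
  exact GrModX.oval_awayToSection 𝒜 hf i _ y

lemma chi_self : chi 𝒜 hf f = 1 := by
  rw [chi_homogeneous 𝒜 hf hf, ← map_one (Proj.awayToSection 𝒜 f).hom]
  congr 1
  apply val_injective
  rw [Away.val_mk, HomogeneousLocalization.val_one, ← Localization.mk_one, Localization.mk_eq_mk_iff,
    Localization.r_iff_exists]
  exact ⟨1, by simp⟩

include hf in
theorem exists_chi_eq (c : Γ(Proj 𝒜, Proj.basicOpen 𝒜 f)) : ∃ a : A, chi 𝒜 hf a = c := by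
  have : IsIso (Proj.awayToSection 𝒜 f) := by
    rw [← Proj.basicOpenIsoAway_hom 𝒜 f hf one_pos]; infer_instance
  obtain ⟨z, rfl⟩ := (ConcreteCategory.bijective_of_isIso (Proj.awayToSection 𝒜 f)).2 c
  obtain ⟨k, a, ha, rfl⟩ := z.mk_surjective 𝒜 hf
  exact ⟨a, chi_homogeneous 𝒜 hf (by simpa using ha)⟩

variable {M τ : Type u} [AddCommGroup M] [Module A M] [SetLike τ M] [AddSubgroupClass τ M] (ℳ : ℕ → τ)
  [SetLike.GradedSMul 𝒜 ℳ] [DirectSum.Decomposition ℳ] (n : ℤ)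

/-- `m / f ^ (i - n)` for `m` of degree `i`. -/
def deltaComp (i : ℕ) : ℳ i →+ Γ(GrMod.tilde 𝒜 ℳ n, Proj.basicOpen 𝒜 f) :=
  AddMonoidHom.mk' (fun x => GrModX.fracSect 𝒜 ℳ n _ (j := ((i : ℤ) - n).toNat) (f_pow_mem 𝒜 hf _)
      (fun y => GrModX.pow_notMem y.1.isPrime y.2 _) (m := f ^ (n - i).toNat • (x : M))
      (Or.inr ⟨(n - i).toNat + i, by omega, SetLike.GradedSMul.smul_mem (f_pow_mem 𝒜 hf _) x.2⟩))
    fun x x' => GrModX.ext_val 𝒜 ℳ fun y => by
      refine Eq.trans ?_ (LocalizedModule.mk_add_mk (s1 := ⟨f ^ ((i : ℤ) - n).toNat, GrModX.pow_notMem y.1.isPrime y.2 _⟩)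
        (s2 := ⟨f ^ ((i : ℤ) - n).toNat, GrModX.pow_notMem y.1.isPrime y.2 _⟩)
        (m1 := f ^ (n - i).toNat • (x : M)) (m2 := f ^ (n - i).toNat • (x' : M))).symm
      rw [GrModX.val_fracSect, LocalizedModule.mk_eq]
      refine ⟨1, ?_⟩
      simp only [one_smul, Submonoid.smul_def, Submonoid.coe_mul, AddMemClass.coe_add, smul_add, smul_smul]
      congr 1 <;> ring_nf

/-- `M → M(n)_(f)`. -/
def delta : M →+ Γ(GrMod.tilde 𝒜 ℳ n, Proj.basicOpen 𝒜 f) :=
  (DirectSum.toAddMonoid (deltaComp 𝒜 hf ℳ n)).comp (DirectSum.decomposeAddEquiv ℳ).toAddMonoidHom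

lemma val_delta {i : ℕ} {m : M} (hm : m ∈ ℳ i) (y : Proj.basicOpen 𝒜 f) :
    GrMod.val (delta 𝒜 hf ℳ n m) y = LocalizedModule.mk (f ^ (n - i).toNat • m)
      ⟨f ^ ((i : ℤ) - n).toNat, GrModX.pow_notMem y.1.isPrime y.2 _⟩ := by
  have : delta 𝒜 hf ℳ n m = deltaComp 𝒜 hf ℳ n i ⟨m, hm⟩ := by
    show DirectSum.toAddMonoid _ (DirectSum.decompose ℳ m) = _
    rw [DirectSum.decompose_of_mem ℳ hm, DirectSum.toAddMonoid_of]
  rw [this]
  rfl

lemma delta_smul (a : A) (m : M) : delta 𝒜 hf ℳ n (a • m) = chi 𝒜 hf a • delta 𝒜 hf ℳ n m := by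
  induction a using DirectSum.Decomposition.inductionOn 𝒜 with
  | zero => rw [zero_smul, map_zero, map_zero, zero_smul]
  | add a b ha hb => rw [add_smul, map_add, map_add, add_smul, ha, hb]
  | @homogeneous j a =>
    induction m using DirectSum.Decomposition.inductionOn ℳ with
    | zero => rw [smul_zero, map_zero, smul_zero]
    | add x y hx hy => rw [smul_add, map_add, map_add, smul_add, hx, hy]
    | @homogeneous i x =>
      refine GrModX.ext_val 𝒜 ℳ fun y => ?_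
      rw [val_delta 𝒜 hf ℳ n (SetLike.GradedSMul.smul_mem a.2 x.2), GrModX.val_smul, oval_chi 𝒜 hf a.2,
        val_delta 𝒜 hf ℳ n x.2, LocalizedModule.mk_smul_mk, LocalizedModule.mk_eq]
      refine ⟨1, ?_⟩
      simp only [one_smul, Submonoid.smul_def, Submonoid.coe_mul, smul_smul]
      have e : j + ((i : ℤ) - n).toNat + (n - ((j + i : ℕ) : ℤ)).toNat =
          (((j + i : ℕ) : ℤ) - n).toNat + (n - i).toNat := by omega
      congr 1
      simp only [vadd_eq_add]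
      rw [show (f : A) ^ j * f ^ ((i : ℤ) - n).toNat * (f ^ (n - ((j + i : ℕ) : ℤ)).toNat * (a : A)) =
        (a : A) * f ^ (j + ((i : ℤ) - n).toNat + (n - ((j + i : ℕ) : ℤ)).toNat) by ring, e, pow_add]
      ring

lemma delta_sub_one_smul (z : M) : delta 𝒜 hf ℳ n ((f - 1) • z) = 0 := by
  rw [delta_smul, map_sub, map_one, chi_self, sub_self, zero_smul]

lemma delta_surjective : Function.Surjective (delta 𝒜 hf ℳ n) := by
  intro s
  obtain ⟨k, m, hm, hval⟩ := GrModX.exists_frac 𝒜 ℳ one_pos hf n s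
  refine ⟨m, GrModX.ext_val 𝒜 ℳ fun y => ?_⟩
  rcases hm with rfl | ⟨i, hi, hm⟩
  · rw [hval, map_zero, LocalizedModule.zero_mk]; rfl
  rw [val_delta 𝒜 hf ℳ n hm, hval, LocalizedModule.mk_eq]
  refine ⟨1, ?_⟩
  simp only [one_smul, Submonoid.smul_def, smul_smul, ← pow_add]
  congr 2
  omega

include hf in
lemma exists_homogenize (y : M) :
    ∃ D₀ : ℕ, ∀ D, D₀ ≤ D → ∃ y' ∈ ℳ D, ∃ z : M, y = y' + (f - 1) • z := by
  induction y using DirectSum.Decomposition.inductionOn ℳ with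
  | zero => exact ⟨0, fun D _ => ⟨0, zero_mem _, 0, by simp⟩⟩
  | @homogeneous i x =>
    refine ⟨i, fun D hD => ?_⟩
    obtain ⟨k, rfl⟩ := Nat.exists_eq_add_of_le' hD
    refine ⟨f ^ k • (x : M), SetLike.GradedSMul.smul_mem (f_pow_mem 𝒜 hf k) x.2,
      -(∑ l ∈ Finset.range k, f ^ l) • (x : M), ?_⟩
    rw [smul_smul, ← add_smul]
    conv_lhs => rw [← one_smul A (x : M)]
    congr 1
    have := mul_geom_sum f k
    linear_combination this
  | add a b ha hb =>
    obtain ⟨D₁, h₁⟩ := ha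
    obtain ⟨D₂, h₂⟩ := hb
    refine ⟨max D₁ D₂, fun D hD => ?_⟩
    obtain ⟨a', ha', z, hz⟩ := h₁ D ((le_max_left _ _).trans hD)
    obtain ⟨b', hb', w, hw⟩ := h₂ D ((le_max_right _ _).trans hD)
    exact ⟨a' + b', add_mem ha' hb', z + w, by rw [smul_add, hz, hw]; abel⟩

/-- The kernel of `delta`. -/
theorem eq_zero_of_delta_eq_zero {Q : Type*} [AddCommGroup Q] (g : M →+ Q)
    (hg : ∀ z, g (f • z) = g z) {y : M} (hy : delta 𝒜 hf ℳ n y = 0) : g y = 0 := by
  have hsub : ∀ z, g ((f - 1) • z) = 0 := fun z => by rw [sub_smul, one_smul, map_sub, hg, sub_self]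
  obtain ⟨D₀, hD⟩ := exists_homogenize 𝒜 hf ℳ y
  obtain ⟨y', hy', z, rfl⟩ := hD (max D₀ n.toNat) (le_max_left _ _)
  rw [map_add, delta_sub_one_smul, add_zero] at hy
  rw [map_add, hsub, add_zero]
  obtain ⟨N, hN⟩ := GrModX.exists_pow_smul_eq_zero_of_mk 𝒜 one_pos hf (z := (max D₀ n.toNat : ℕ))
    (ℳ := ℳ) (m := y') (Or.inr ⟨_, rfl, hy'⟩) fun x hx => by
      refine ⟨⟨f ^ (((max D₀ n.toNat : ℕ) : ℤ) - n).toNat, GrModX.pow_notMem x.isPrime hx _⟩, ?_⟩
      have h0 : (n - ((max D₀ n.toNat : ℕ) : ℤ)).toNat = 0 := by omega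
      have := val_delta 𝒜 hf ℳ n hy' ⟨x, hx⟩
      rw [hy] at this
      simp only [h0, pow_zero, one_smul] at this
      exact this.symm
  have key : ∀ k : ℕ, g (f ^ k • y') = g y' := fun k => by
    induction k with
    | zero => rw [pow_zero, one_smul]
    | succ k ih => rw [pow_succ', mul_smul, hg, ih]
  rw [← key N, hN, map_zero]

end Groth.Agent.TwAdj35
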