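import Groth.Agent.TwAdj35.BaseChange
import Groth.Agent.TwAdj35.DeHom

/-!
`M(n)~` and base change along a homomorphism of graded rings generated in degree one.
-/

universe u

set_option backward.isDefEq.respectTransparency false
set_option backward.isDefEq.respectTransparency.types false

open CategoryTheory CategoryTheory.Limits AlgebraicGeometry TopologicalSpace Opposite DirectSum
open Groth.Agent.GrModX (Deg oval)
open scoped HomogeneousIdeal

noncomputable section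

namespace Groth.Agent.TwAdj35

variable {A σ : Type u} [CommRing A] [SetLike σ A] [AddSubgroupClass σ A] {𝒜 : ℕ → σ} [GradedRing 𝒜]
  {B σ' : Type u} [CommRing B] [SetLike σ' B] [AddSubgroupClass σ' B] {ℬ : ℕ → σ'} [GradedRing ℬ]
  (ψ : 𝒜 →+*ᵍ ℬ) (hψ : ℬ₊ ≤ (𝒜₊).map ψ)
  {f : A} (hf : f ∈ 𝒜 1)

theorem app_chi (a : A) :
    (Proj.map ψ hψ).app (Proj.basicOpen 𝒜 f) (chi 𝒜 hf a) = chi ℬ (ψ.map_mem hf) (ψ a) := by
  induction a using DirectSum.Decomposition.inductionOn 𝒜 with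
  | zero => rw [map_zero, map_zero, map_zero, map_zero]
  | add a b ha hb =>
    rw [map_add, map_add, map_add, map_add, ha, hb]
  | @homogeneous i a =>
    refine Subtype.ext (funext fun y => HomogeneousLocalization.val_injective _ ?_)
    refine Eq.trans ?_ (oval_chi ℬ (ψ.map_mem hf) (ψ.map_mem a.2) y).symm
    have hy : Proj.map ψ hψ y.1 ∈ Proj.basicOpen 𝒜 f := y.2
    show (((Proj.comapStructureSheaf ψ hψ (Proj.basicOpen 𝒜 f) _ Set.Subset.rfl) (chi 𝒜 hf a)).1 y).val = _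
    rw [GrTwist.comapStructureSheaf_apply, HomogeneousLocalization.val_localRingHom,
      show (((chi 𝒜 hf a : Γ(Proj 𝒜, Proj.basicOpen 𝒜 f)) : GrTwist.O (𝒜 := 𝒜) (op (Proj.basicOpen 𝒜 f))).1
        ⟨ProjectiveSpectrum.comap ψ hψ y.1, hy⟩).val = _ from oval_chi 𝒜 hf a.2 ⟨_, hy⟩]
    refine (GrTwist.locMap_mk ψ hψ y.1 (a : A) ⟨f ^ i, GrModX.pow_notMem
      (ProjectiveSpectrum.comap ψ hψ y.1).isPrime hy i⟩).trans ?_
    congr 1
    exact Subtype.ext (map_pow ψ f i)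

variable {M τ : Type u} [AddCommGroup M] [Module A M] [SetLike τ M] [AddSubgroupClass τ M] {ℳ : ℕ → τ}
  [SetLike.GradedSMul 𝒜 ℳ] [DirectSum.Decomposition ℳ]
  {N τ' : Type u} [AddCommGroup N] [Module B N] [SetLike τ' N] [AddSubgroupClass τ' N] {𝒩 : ℕ → τ'}
  [SetLike.GradedSMul ℬ 𝒩] [DirectSum.Decomposition 𝒩]
  (v : M →ₛₗ[ψ.toRingHom] N) (hv : ∀ (i : ℕ) (m : M), m ∈ ℳ i → v m ∈ 𝒩 i) (n : ℤ)

theorem app_delta (m : M) :
    (GrMod.comap ψ hψ v hv n).app (Proj.basicOpen 𝒜 f) (delta 𝒜 hf ℳ n m) =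
      delta ℬ (ψ.map_mem hf) 𝒩 n (v m) := by
  induction m using DirectSum.Decomposition.inductionOn ℳ with
  | zero => rw [map_zero, map_zero, map_zero, map_zero]
  | add a b ha hb =>
    rw [map_add, map_add, map_add, map_add, ha, hb]
  | @homogeneous i x =>
    refine GrModX.ext_val ℬ 𝒩 fun y => ?_
    refine (GrMod.comap_app_val ψ hψ v hv n _ _ y).trans ?_
    refine Eq.trans ?_ (val_delta ℬ (ψ.map_mem hf) 𝒩 n (hv i _ x.2) y).symm
    rw [val_delta 𝒜 hf ℳ n x.2]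
    refine (GrMod.locModMap_mk ψ hψ v y.1 _ _).trans ?_
    rw [LinearMap.map_smulₛₗ, LocalizedModule.mk_eq]
    refine ⟨1, ?_⟩
    simp only [one_smul, Submonoid.smul_def, map_pow]
    rfl

theorem isSectBC_basicOpen (hbc : ∀ (Q : Type u) [AddCommGroup Q] [Module B Q] (w : M →ₛₗ[ψ.toRingHom] Q),
      ∃! g : N →ₗ[B] Q, ∀ m : M, g (v m) = w m) {f : A} (hf : f ∈ 𝒜 1) :
    IsSectBC (Proj.map ψ hψ) (GrMod.comap ψ hψ v hv n) (Proj.basicOpen 𝒜 f) := by
  intro Q _ _ h hh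
  have hf' : ψ f ∈ ℬ 1 := ψ.map_mem hf
  let χ : B →+* Γ(Proj ℬ, Proj.map ψ hψ ⁻¹ᵁ Proj.basicOpen 𝒜 f) := chi ℬ hf'
  let δ : N →+ Γ(GrMod.tilde ℬ 𝒩 n, Proj.map ψ hψ ⁻¹ᵁ Proj.basicOpen 𝒜 f) := delta ℬ hf' 𝒩 n
  have hδ : Function.Surjective δ := delta_surjective ℬ hf' 𝒩 n
  have hδs : ∀ (b : B) (y : N), δ (b • y) = χ b • δ y := fun b y => delta_smul ℬ hf' 𝒩 n b y
  letI : Module B Q := Module.compHom Q χ
  let w : M →ₛₗ[ψ.toRingHom] Q :=
    { toFun := fun m => h (delta 𝒜 hf ℳ n m)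
      map_add' := fun a b => by rw [map_add, map_add]
      map_smul' := fun a m => by
        show h (delta 𝒜 hf ℳ n (a • m)) = χ (ψ a) • h (delta 𝒜 hf ℳ n m)
        rw [delta_smul, hh, app_chi]
        rfl }
  obtain ⟨g, hg, huniq⟩ := hbc Q w
  have hg1 : ∀ z : N, g (ψ f • z) = g z := fun z => by
    rw [g.map_smul]
    show χ (ψ f) • g z = g z
    rw [show χ (ψ f) = 1 from chi_self ℬ hf', one_smul]
  have hker : ∀ y, δ y = 0 → g y = 0 := fun y hy => eq_zero_of_delta_eq_zero ℬ hf' 𝒩 n g.toAddMonoidHom hg1 hy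
  have heq : ∀ y y', δ y = δ y' → g y = g y' := fun y y' e => by
    rw [← sub_eq_zero, ← map_sub]
    exact hker _ (by rw [map_sub, e, sub_self])
  choose pre hpre using hδ
  refine ⟨{ toFun := fun s => g (pre s), map_add' := fun s t => ?_, map_smul' := fun c s => ?_ },
    fun x => ?_, fun L' hL' => ?_⟩
  · rw [← map_add]
    exact heq _ _ (by rw [map_add, hpre, hpre, hpre])
  · obtain ⟨b, hb⟩ := exists_chi_eq ℬ hf' c
    have hb' : χ b = c := hb
    refine (heq _ (b • pre s) ?_).trans ?_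
    · rw [hδs, hpre, hpre, hb']
    · rw [g.map_smul]
      show χ b • g (pre s) = c • g (pre s)
      rw [hb']
  · obtain ⟨m, rfl⟩ := delta_surjective 𝒜 hf ℳ n x
    refine (heq _ (v m) ?_).trans (hg m)
    rw [hpre]
    exact app_delta ψ hψ hf v hv n m
  · let g' : N →ₗ[B] Q :=
      { toFun := fun y => L' (δ y)
        map_add' := fun a b => by rw [map_add, map_add]
        map_smul' := fun b y => by rw [hδs, L'.map_smul]; rfl }
    have e : g' = g := huniq g' fun m => by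
      show L' (δ (v m)) = h (delta 𝒜 hf ℳ n m)
      rw [← hL' (delta 𝒜 hf ℳ n m)]
      exact congrArg L' (app_delta ψ hψ hf v hv n m).symm
    refine LinearMap.ext fun s => ?_
    show L' s = g (pre s)
    rw [← e]
    exact congrArg L' (hpre s).symm

/-- The comparison is invertible when `𝒜` is generated in degree one. -/
theorem isIso_adjunct_comap_grMod (hgen : (𝒜₊).toIdeal = Ideal.span (𝒜 1 : Set A))
    (hbc : ∀ (Q : Type u) [AddCommGroup Q] [Module B Q] (w : M →ₛₗ[ψ.toRingHom] Q),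
      ∃! g : N →ₗ[B] Q, ∀ m : M, g (v m) = w m) :
    IsIso (((Scheme.Modules.pullbackPushforwardAdjunction (Proj.map ψ hψ)).homEquiv _ _).symm
      (GrMod.comap ψ hψ v hv n)) := by
  refine isIso_adjunct_of_isSectBC (Proj.map ψ hψ) _ (GrModX.isQCoh_tilde 𝒜 ℳ n) (GrModX.isQCoh_tilde ℬ 𝒩 n)
    (fun a : 𝒜 1 => Proj.basicOpen 𝒜 (a : A)) (fun a => Proj.isAffineOpen_basicOpen 𝒜 _ a.2 one_pos)
    (fun a => Proj.isAffineOpen_basicOpen ℬ (ψ a) (ψ.map_mem a.2) one_pos) (fun x => ?_)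
    fun a => isSectBC_basicOpen ψ hψ v hv n hbc a.2
  by_contra! hall
  refine (Proj.map ψ hψ x).not_irrelevant_le ?_
  show (𝒜₊).toIdeal ≤ (Proj.map ψ hψ x).asHomogeneousIdeal.toIdeal
  rw [hgen, Ideal.span_le]
  intro a ha
  by_contra h
  exact hall ⟨a, ha⟩ h

end Groth.Agent.TwAdj35
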