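import Groth.Prelude.Def_GrMod3
import Groth.Prelude.Def_GrMod2
import Groth.Agent.GrModX.Stalk
import Groth.Agent.Proj16.VeroneseProj
import Groth.Agent.ProjPt.Sections
import Groth.Agent.TwAdj35.Adjunct

/-!
Modules attached to Veronese submodules.
-/

universe u

set_option backward.isDefEq.respectTransparency false
set_option backward.isDefEq.respectTransparency.types false

open CategoryTheory CategoryTheory.Limits AlgebraicGeometry TopologicalSpace Opposite HomogeneousLocalization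
open Groth.Agent.GrModX (Deg)

noncomputable section

namespace Groth.Agent.TwAdj35

variable {R A : Type u} [CommRing R] [CommRing A] [Algebra R A] {𝒜 : ℕ → Submodule R A} [GradedAlgebra 𝒜]
  {B : Type u} [CommRing B] [Algebra R B] {ℬ : ℕ → Submodule R B} [GradedAlgebra ℬ]
  {d : ℕ} (hd : 0 < d) {φ : B →ₐ[R] A}
  (hdeg : ∀ n : ℕ, Submodule.map φ.toLinearMap (ℬ n) = 𝒜 (n * d))

include hdeg in
/-- The degree condition, elementwise. -/
lemma deg_le {k : ℕ} {b : B} (hb : b ∈ ℬ k) : φ b ∈ 𝒜 (k * d) := (hdeg k).le (Submodule.mem_map_of_mem hb)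

include hdeg in
lemma deg_surj (k : ℕ) (a : A) (ha : a ∈ 𝒜 (k * d)) : ∃ b ∈ ℬ k, φ b = a := (hdeg k).ge ha

variable {e : Proj 𝒜 ≅ Proj ℬ}
  (he : ∀ (n : ℕ) (g : B) (hn : 0 < n) (hg : g ∈ ℬ n)
      (θ : CommRingCat.of (HomogeneousLocalization.Away ℬ g) ⟶ CommRingCat.of (HomogeneousLocalization.Away 𝒜 (φ g))),
      (algebraMap (HomogeneousLocalization.Away 𝒜 (φ g)) (Localization.Away (φ g))).comp θ.hom =
        (Localization.awayMap φ.toRingHom g).comp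
          (algebraMap (HomogeneousLocalization.Away ℬ g) (Localization.Away g)) →
      Proj.awayι 𝒜 (φ g) ((hdeg n).le (Submodule.mem_map_of_mem hg)) (Nat.mul_pos hn hd) ≫ e.hom =
        Spec.map θ ≫ Proj.awayι ℬ g hg hn)

include he in
lemma e_eq : e.hom = (Proj16.veroneseData 𝒜 ℬ hd φ.toRingHom (fun _ _ hb => deg_le hdeg hb)
    (fun k a ha => deg_surj hdeg k a ha)).map :=
  Proj16.ToProjData.eq_map _ fun n g hn hg => he n g hn hg _
    (RingHom.ext fun z => Proj16.val_veroneseAwayMap ℬ 𝒜 φ.toRingHom (fun _ _ hb => deg_le hdeg hb) g z)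

include he in
lemma mem_e_iff (p : Proj 𝒜) (b : B) :
    b ∈ (e.hom p).asHomogeneousIdeal ↔ φ b ∈ p.asHomogeneousIdeal := by
  rw [e_eq hd hdeg he]
  exact SetLike.ext_iff.mp (Proj16.veronese_apply 𝒜 ℬ hd φ.toRingHom _ _ p) b

/-- The map of local rings under the Veronese correspondence. -/
def locVer (p : ProjectiveSpectrum 𝒜) (x : ProjectiveSpectrum ℬ)
    (h : ∀ b, b ∉ x.asHomogeneousIdeal → φ b ∉ p.asHomogeneousIdeal) :
    GrTwist.Loc ℬ x →+* GrTwist.Loc 𝒜 p :=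
  IsLocalization.map (M := x.asHomogeneousIdeal.toIdeal.primeCompl) (T := p.asHomogeneousIdeal.toIdeal.primeCompl)
    _ φ.toRingHom (fun b hb => h b hb)

lemma locVer_mk (p : ProjectiveSpectrum 𝒜) (x : ProjectiveSpectrum ℬ)
    (h : ∀ b, b ∉ x.asHomogeneousIdeal → φ b ∉ p.asHomogeneousIdeal) (b s : B) (hs : s ∉ x.asHomogeneousIdeal) :
    locVer p x h (Localization.mk b ⟨s, hs⟩) = Localization.mk (φ b) ⟨φ s, h s hs⟩ := by
  rw [Localization.mk_eq_mk', Localization.mk_eq_mk', locVer, IsLocalization.map_mk']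
  rfl

include he in
/-- The sheaf component of the Veronese isomorphism, pointwise. -/
theorem val_app (U : (Proj ℬ).Opens) (r : Γ(Proj ℬ, U)) (p : Proj 𝒜) (hp : p ∈ e.hom ⁻¹ᵁ U) :
    ((show GrTwist.O (𝒜 := 𝒜) (op (e.hom ⁻¹ᵁ U)) from e.hom.app U r).1 ⟨p, hp⟩).val =
      locVer p (e.hom p) (fun b hb h => hb ((mem_e_iff hd hdeg he p b).mpr h))
        ((show GrTwist.O (𝒜 := ℬ) (op U) from r).1 ⟨e.hom p, hp⟩).val := by
  obtain ⟨m, g, hm, hg, hxg, hgU⟩ := Proj16.exists_basicOpen_subset (𝒜 := ℬ) U.2 (show e.hom p ∈ U from hp)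
  have hgU' : Proj.basicOpen ℬ g ≤ U := hgU
  haveI : IsIso (Proj.awayToSection ℬ g) := by
    rw [← Proj.basicOpenIsoAway_hom ℬ g hg hm]; infer_instance
  obtain ⟨z, hz⟩ := (ConcreteCategory.bijective_of_isIso (Proj.awayToSection ℬ g)).2
    ((Proj ℬ).presheaf.map (homOfLE hgU').op r)
  let θ := Proj16.veroneseAwayMap ℬ 𝒜 φ.toRingHom (fun _ _ hb => deg_le hdeg hb) g
  have hφg : φ g ∈ 𝒜 (m * d) := deg_le hdeg hg
  have hθ := he m g hm hg (CommRingCat.ofHom θ)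
    (RingHom.ext fun z => Proj16.val_veroneseAwayMap ℬ 𝒜 φ.toRingHom (fun _ _ hb => deg_le hdeg hb) g z)
  have hpre : Proj.basicOpen 𝒜 (φ g) ≤ e.hom ⁻¹ᵁ Proj.basicOpen ℬ g := fun q hq hqg =>
    hq ((mem_e_iff hd hdeg he q g).mp hqg)
  -- the two sections agree
  have key : (Proj.awayToSection 𝒜 (φ g)).hom (θ z) =
      (e.hom.appLE U (Proj.basicOpen 𝒜 (φ g)) (hpre.trans (e.hom.preimage_mono hgU'))).hom r := by
    let ι' := Proj.awayι 𝒜 (φ g) hφg (Nat.mul_pos hm hd)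
    have e1 : (⊤ : (Spec (CommRingCat.of (Away 𝒜 (φ g)))).Opens) ≤ ι' ⁻¹ᵁ Proj.basicOpen 𝒜 (φ g) := by
      rw [← Proj.opensRange_awayι 𝒜 (φ g) hφg (Nat.mul_pos hm hd), Scheme.Hom.preimage_opensRange]
    have e2 : (⊤ : (Spec (CommRingCat.of (Away ℬ g))).Opens) ≤ Proj.awayι ℬ g hg hm ⁻¹ᵁ Proj.basicOpen ℬ g := by
      rw [← Proj.opensRange_awayι ℬ g hg hm, Scheme.Hom.preimage_opensRange]
    have hinj : Function.Injective (ι'.appLE (Proj.basicOpen 𝒜 (φ g)) ⊤ e1).hom := by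
      have h1 := ProjPt.awayι_appLE 𝒜 hφg (Nat.mul_pos hm hd) e1
      haveI : IsIso (Proj.awayToSection 𝒜 (φ g)) := by
        rw [← Proj.basicOpenIsoAway_hom 𝒜 (φ g) hφg (Nat.mul_pos hm hd)]; infer_instance
      haveI : IsIso (ι'.appLE (Proj.basicOpen 𝒜 (φ g)) ⊤ e1) := by
        haveI : IsIso (Proj.awayToSection 𝒜 (φ g) ≫ ι'.appLE (Proj.basicOpen 𝒜 (φ g)) ⊤ e1) := by
          rw [h1]; infer_instance
        exact IsIso.of_isIso_comp_left (Proj.awayToSection 𝒜 (φ g)) _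
      exact (ConcreteCategory.bijective_of_isIso (ι'.appLE (Proj.basicOpen 𝒜 (φ g)) ⊤ e1)).1
    refine hinj ?_
    have lhs := ConcreteCategory.congr_hom (ProjPt.awayι_appLE 𝒜 hφg (Nat.mul_pos hm hd) e1) (θ z)
    refine lhs.trans ?_
    have hcomp : e.hom.appLE U (Proj.basicOpen 𝒜 (φ g)) (hpre.trans (e.hom.preimage_mono hgU')) ≫
        ι'.appLE (Proj.basicOpen 𝒜 (φ g)) ⊤ e1 =
          (Proj ℬ).presheaf.map (homOfLE hgU').op ≫ (Proj.awayι ℬ g hg hm).appLE (Proj.basicOpen ℬ g) ⊤ e2 ≫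
            (Spec.map (CommRingCat.ofHom θ)).appTop := by
      rw [Scheme.Hom.appLE_comp_appLE, Scheme.Hom.appTop, Scheme.Hom.app_eq_appLE,
        Scheme.Hom.appLE_comp_appLE, Scheme.Hom.map_appLE]
      simp only [hθ, ι']
      rfl
    refine Eq.trans ?_ (ConcreteCategory.congr_hom hcomp r).symm
    rw [ConcreteCategory.comp_apply, ConcreteCategory.comp_apply, ← hz]
    have h2 := ConcreteCategory.congr_hom (ProjPt.awayι_appLE ℬ hg hm e2) z
    rw [ConcreteCategory.comp_apply] at h2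
    rw [h2]
    exact ConcreteCategory.congr_hom (Scheme.ΓSpecIso_inv_naturality (CommRingCat.ofHom θ)) z
  have hpφ : p ∈ Proj.basicOpen 𝒜 (φ g) := fun h => hxg ((mem_e_iff hd hdeg he p g).mpr h)
  have lhs : ((show GrTwist.O (𝒜 := 𝒜) (op (Proj.basicOpen 𝒜 (φ g))) from
        (Proj.awayToSection 𝒜 (φ g)).hom (θ z)).1 ⟨p, hpφ⟩).val =
      ((show GrTwist.O (𝒜 := 𝒜) (op (e.hom ⁻¹ᵁ U)) from e.hom.app U r).1 ⟨p, hp⟩).val := by
    rw [key]; rfl
  have rhs : ((show GrTwist.O (𝒜 := ℬ) (op (Proj.basicOpen ℬ g)) from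
        (Proj.awayToSection ℬ g).hom z).1 ⟨e.hom p, hxg⟩).val =
      ((show GrTwist.O (𝒜 := ℬ) (op U) from r).1 ⟨e.hom p, hp⟩).val := by
    rw [show (Proj.awayToSection ℬ g).hom z = _ from hz]; rfl
  rw [← lhs, ← rhs]
  obtain ⟨k, b, hb, rfl⟩ := z.mk_surjective ℬ hg
  refine (ProjectiveSpectrum.Proj.awayToSection_apply (𝒜 := 𝒜) (φ g) _ ⟨p, hpφ⟩).trans ?_
  refine Eq.trans ?_ (congrArg _ (ProjectiveSpectrum.Proj.awayToSection_apply (𝒜 := ℬ) g _ ⟨e.hom p, hxg⟩)).symm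
  show IsLocalization.map _ _ _ (Proj16.veroneseAwayMap ℬ 𝒜 φ.toRingHom _ g (Away.mk ℬ hg k b hb)).val = _
  rw [Proj16.veroneseAwayMap_mk ℬ 𝒜 φ.toRingHom (fun _ _ hb => deg_le hdeg hb) hg k b hb,
    Away.val_mk, Away.val_mk, Localization.mk_eq_mk', Localization.mk_eq_mk', IsLocalization.map_mk',
    IsLocalization.map_mk', locVer, IsLocalization.map_mk']
  congr 1
  exact Subtype.ext (map_pow φ g k).symm

variable {M : Type u} [AddCommGroup M] [Module R M] [Module A M] [IsScalarTower R A M] {ℳ : ℕ → Submodule R M}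
  [DirectSum.Decomposition ℳ] [SetLike.GradedSMul 𝒜 ℳ]
  {N : Type u} [AddCommGroup N] [Module R N] [Module B N] [IsScalarTower R B N] {𝒩 : ℕ → Submodule R N}
  [DirectSum.Decomposition 𝒩] [SetLike.GradedSMul ℬ 𝒩]
  (v : N →ₛₗ[φ.toRingHom] M) (hv : Function.Injective v)
  (hvdeg : ∀ n : ℕ, (𝒩 n : Set N).image v = (ℳ (n * d) : Set M))

/-- The map of localized modules under the Veronese correspondence. -/
def locModVer (p : ProjectiveSpectrum 𝒜) (x : ProjectiveSpectrum ℬ)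
    (h : ∀ b, b ∉ x.asHomogeneousIdeal → φ b ∉ p.asHomogeneousIdeal) :
    GrMod.LocMod ℬ (M := N) x →+ GrMod.LocMod 𝒜 (M := M) p where
  toFun q := q.liftOn (fun t => LocalizedModule.mk (v t.1) ⟨φ t.2.1, h _ t.2.2⟩) (by
    rintro ⟨m, s⟩ ⟨m', s'⟩ ⟨w, hw⟩
    refine LocalizedModule.mk_eq.mpr ⟨⟨φ w.1, h _ w.2⟩, ?_⟩
    have hw' := congrArg v hw
    simp only [Submonoid.smul_def, LinearMap.map_smulₛₗ] at hw' ⊢
    exact hw')
  map_zero' := by
    rw [← LocalizedModule.zero_mk 1, LocalizedModule.liftOn_mk, map_zero, LocalizedModule.zero_mk]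
  map_add' q q' := by
    induction q using LocalizedModule.induction_on with
    | h m s =>
      induction q' using LocalizedModule.induction_on with
      | h m' s' =>
        rw [LocalizedModule.mk_add_mk, LocalizedModule.liftOn_mk, LocalizedModule.liftOn_mk,
          LocalizedModule.liftOn_mk, LocalizedModule.mk_add_mk]
        simp only [map_add, Submonoid.smul_def, LinearMap.map_smulₛₗ]
        congr 1
        exact Subtype.ext (map_mul φ s.1 s'.1)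

lemma locModVer_mk (p : ProjectiveSpectrum 𝒜) (x : ProjectiveSpectrum ℬ)
    (h : ∀ b, b ∉ x.asHomogeneousIdeal → φ b ∉ p.asHomogeneousIdeal) (m : N) (s : B)
    (hs : s ∉ x.asHomogeneousIdeal) :
    locModVer v p x h (LocalizedModule.mk m ⟨s, hs⟩) = LocalizedModule.mk (v m) ⟨φ s, h s hs⟩ := rfl

lemma locModVer_smul (p : ProjectiveSpectrum 𝒜) (x : ProjectiveSpectrum ℬ)
    (h : ∀ b, b ∉ x.asHomogeneousIdeal → φ b ∉ p.asHomogeneousIdeal) (r : GrTwist.Loc ℬ x)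
    (q : GrMod.LocMod ℬ (M := N) x) :
    locModVer v p x h (r • q) = locVer p x h r • locModVer v p x h q := by
  induction q using LocalizedModule.induction_on with
  | h m s =>
    induction r using Localization.induction_on with
    | H t =>
      obtain ⟨a, ⟨t, ht⟩⟩ := t
      obtain ⟨s, hs⟩ := s
      rw [LocalizedModule.mk_smul_mk, locVer_mk]
      refine (locModVer_mk v p x h (a • m) (t * s) (x.asHomogeneousIdeal.toIdeal.primeCompl.mul_mem ht hs)).trans ?_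
      rw [locModVer_mk, LocalizedModule.mk_smul_mk, LinearMap.map_smulₛₗ]
      congr 1
      exact Subtype.ext (map_mul φ t s)

include hvdeg in
lemma deg_v {z : ℤ} {m : N} (h : Deg 𝒩 z m) : Deg ℳ (z * d) (v m) := by
  rcases h with rfl | ⟨i, hi, hm⟩
  · exact Or.inl (map_zero v)
  · exact Or.inr ⟨i * d, by push_cast; rw [hi], (hvdeg i).le ⟨m, hm, rfl⟩⟩

include hdeg hvdeg in
lemma locModVer_mem (p : ProjectiveSpectrum 𝒜) (x : ProjectiveSpectrum ℬ)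
    (h : ∀ b, b ∉ x.asHomogeneousIdeal → φ b ∉ p.asHomogeneousIdeal) (n : ℤ)
    {q : GrMod.LocMod ℬ (M := N) x} (hq : q ∈ GrMod.tildeAt ℬ 𝒩 n x) :
    locModVer v p x h q ∈ GrMod.tildeAt 𝒜 ℳ (n * d) p := by
  obtain ⟨j, s, hs, hsx, m, hm, rfl⟩ := GrModX.exists_repr_tildeAt ℬ 𝒩 n x hq
  rw [locModVer_mk]
  exact GrModX.mk_mem_tildeAt 𝒜 ℳ _ p (deg_le hdeg hs) _
    ((deg_v v hvdeg hm).congr (by push_cast; ring))

include hd hdeg hv hvdeg in
lemma locModVer_bij (p : ProjectiveSpectrum 𝒜) (x : ProjectiveSpectrum ℬ)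
    (h : ∀ b, b ∉ x.asHomogeneousIdeal → φ b ∉ p.asHomogeneousIdeal)
    (h' : ∀ b, φ b ∉ p.asHomogeneousIdeal → b ∉ x.asHomogeneousIdeal) (n : ℤ) :
    (∀ q ∈ GrMod.tildeAt ℬ 𝒩 n x, locModVer v p x h q = 0 → q = 0) ∧
      ∀ r ∈ GrMod.tildeAt 𝒜 ℳ (n * d) p, ∃ q ∈ GrMod.tildeAt ℬ 𝒩 n x, locModVer v p x h q = r := by
  refine ⟨fun q hq h0 => ?_, fun r hr => ?_⟩
  · obtain ⟨j, s, hs, hsx, m, hm, rfl⟩ := GrModX.exists_repr_tildeAt ℬ 𝒩 n x hq
    rw [locModVer_mk, ← LocalizedModule.zero_mk 1, LocalizedModule.mk_eq] at h0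
    obtain ⟨⟨u, hu⟩, hu'⟩ := h0
    simp only [Submonoid.smul_def, Submonoid.coe_one, one_smul, smul_zero] at hu'
    rcases hm with rfl | ⟨i, hi, hmi⟩
    · exact LocalizedModule.zero_mk _
    obtain ⟨c, hc⟩ : ∃ c, GradedRing.proj 𝒜 c u ∉ p.asHomogeneousIdeal := by
      by_contra! hall
      exact hu (Proj16.mem_of_forall_proj_mem 𝒜 (s := p.asHomogeneousIdeal.toIdeal) hall)
    have hk : GradedRing.proj 𝒜 c u • v m = 0 :=
      GrModX.proj_smul_eq_zero 𝒜 ((hvdeg i).le ⟨m, hmi, rfl⟩) hu' c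
    obtain ⟨w, -, hw⟩ := deg_surj hdeg c (GradedRing.proj 𝒜 c u ^ d) (by
      rw [mul_comm]; simpa using SetLike.pow_mem_graded d (Proj16.proj_mem 𝒜 c u))
    have hwx : w ∉ x.asHomogeneousIdeal :=
      h' w (hw ▸ fun hh => hc (p.isPrime.mem_of_pow_mem d hh))
    have hw0 : w • m = 0 := hv (by
      rw [LinearMap.map_smulₛₗ, map_zero]
      show φ w • v m = 0
      obtain ⟨d', rfl⟩ := Nat.exists_eq_succ_of_ne_zero hd.ne'
      rw [hw, pow_succ, mul_smul, hk, smul_zero])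
    rw [← LocalizedModule.zero_mk 1, LocalizedModule.mk_eq]
    exact ⟨⟨w, hwx⟩, by simp only [Submonoid.smul_def, Submonoid.coe_one, one_smul, smul_zero]; exact hw0⟩
  · obtain ⟨j, t, ht, htp, m', hm', rfl⟩ := GrModX.exists_repr_tildeAt 𝒜 ℳ (n * d) p hr
    rcases hm' with rfl | ⟨i, hi, hm'⟩
    · exact ⟨0, zero_mem _, by rw [map_zero, LocalizedModule.zero_mk]⟩
    obtain ⟨s, hs, hst⟩ := deg_surj hdeg j (t ^ d) (by rw [mul_comm]; simpa using SetLike.pow_mem_graded d ht)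
    have hmem : t ^ (d - 1) • m' ∈ ℳ ((d - 1) * j + i) := by
      have := SetLike.GradedSMul.smul_mem (SetLike.pow_mem_graded (d - 1) ht) hm'
      simpa using this
    have heq : (((d - 1) * j + i : ℕ) : ℤ) = ((j : ℤ) + n) * d := by
      push_cast [Nat.cast_sub hd]
      linear_combination hi
    have hnn : 0 ≤ (j : ℤ) + n := nonneg_of_mul_nonneg_left (heq ▸ Int.natCast_nonneg _) (by exact_mod_cast hd)
    have hd' : (d - 1) * j + i = ((j : ℤ) + n).toNat * d := by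
      apply Int.natCast_inj.mp
      rw [heq]
      push_cast [Int.toNat_of_nonneg hnn]
      ring
    obtain ⟨m, hm, hmv⟩ := (hvdeg _).ge (show t ^ (d - 1) • m' ∈ (ℳ (((j : ℤ) + n).toNat * d) : Set M) from hd' ▸ hmem)
    have hsx : s ∉ x.asHomogeneousIdeal :=
      h' s (hst ▸ fun hh => htp (p.isPrime.mem_of_pow_mem d hh))
    refine ⟨LocalizedModule.mk m ⟨s, hsx⟩, GrModX.mk_mem_tildeAt ℬ 𝒩 n x hs hsx
      (Or.inr ⟨_, Int.toNat_of_nonneg hnn, hm⟩), ?_⟩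
    rw [locModVer_mk, hmv, LocalizedModule.mk_eq]
    refine ⟨1, ?_⟩
    simp only [one_smul, Submonoid.smul_def, hst]
    rw [← mul_smul, ← pow_succ', Nat.sub_add_cancel hd]

variable (n : ℤ)

/-- The values of the comparison of modules. -/
def verFun (U : (Proj ℬ).Opens) (s : GrMod.sect ℬ 𝒩 n (op U)) (y : (e.hom ⁻¹ᵁ U : (Proj 𝒜).Opens)) :
    GrMod.tildeAt 𝒜 ℳ (n * d) y.1 :=
  ⟨locModVer v y.1 (e.hom y.1) (fun b hb h => hb ((mem_e_iff hd hdeg he y.1 b).mpr h))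
    (s.1 ⟨e.hom y.1, y.2⟩).1, locModVer_mem hdeg v hvdeg _ _ _ n (s.1 ⟨e.hom y.1, y.2⟩).2⟩

theorem isLocFrac_ver (U : (Proj ℬ).Opens) (s : GrMod.sect ℬ 𝒩 n (op U)) :
    (GrMod.isLocFrac 𝒜 ℳ (n * d)).pred (verFun hd hdeg he v hvdeg n U s) := by
  rintro ⟨p, hp⟩
  obtain ⟨W, hpW, iW, i, j, a, b, hb, hij, hfr⟩ := s.2 ⟨e.hom p, hp⟩
  refine ⟨e.hom ⁻¹ᵁ W, hpW, homOfLE (e.hom.preimage_mono iW.le), i * d, j * d,
    ⟨v (a : N), (hvdeg i).le ⟨a, a.2, rfl⟩⟩, ⟨φ (b : B), deg_le hdeg b.2⟩,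
    fun z h => hb ⟨_, z.2⟩ ((mem_e_iff hd hdeg he z.1 _).mpr h), ?_, fun z => ?_⟩
  · rcases hij with hij | h
    · exact Or.inl (by push_cast; rw [hij]; ring)
    · exact Or.inr (show v (a : N) = 0 by rw [h, map_zero])
  · exact (congrArg (locModVer v z.1 (e.hom z.1) _) (hfr ⟨_, z.2⟩)).trans (locModVer_mk v _ _ _ _ _ _)

/-- The comparison of modules. -/
def verHom : GrMod.tilde ℬ 𝒩 n ⟶ (Scheme.Modules.pushforward e.hom).obj (GrMod.tilde 𝒜 ℳ (n * d)) :=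
  ⟨PresheafOfModules.homMk
    { app := fun U => AddCommGrpCat.ofHom (AddMonoidHom.mk'
        (fun s : GrMod.sect ℬ 𝒩 n U => (⟨verFun hd hdeg he v hvdeg n U.unop s, isLocFrac_ver hd hdeg he v hvdeg n U.unop s⟩ :
          GrMod.sect 𝒜 ℳ (n * d) (op (e.hom ⁻¹ᵁ U.unop))))
        fun s t => Subtype.ext (funext fun y => Subtype.ext (map_add (locModVer v y.1 (e.hom y.1) _) _ _)))
      naturality := fun _ _ _ => rfl }
    fun U r s => Subtype.ext (funext fun y => Subtype.ext (by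
      obtain ⟨p, hp⟩ := y
      refine (congrArg (locModVer v p (e.hom p) _)
        (GrMod.coe_smul_val n (e.hom p) ((show GrTwist.O (𝒜 := ℬ) U from r).1 ⟨_, hp⟩)
          ((show GrMod.sect ℬ 𝒩 n U from s).1 ⟨_, hp⟩))).trans ?_
      refine (locModVer_smul v p (e.hom p) _ _ _).trans ?_
      refine Eq.trans ?_ (GrMod.coe_smul_val (n * d) p
        ((show GrTwist.O (𝒜 := 𝒜) (op (e.hom ⁻¹ᵁ U.unop)) from e.hom.app U.unop r).1 ⟨p, hp⟩) _).symm
      rw [val_app hd hdeg he U.unop r p hp]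
      rfl))⟩

include hd hv in
theorem verHom_bijective (U : (Proj ℬ).Opens) :
    Function.Bijective ((verHom hd hdeg he v hvdeg n).app U) := by
  have hh : ∀ q : Proj 𝒜, ∀ b, φ b ∉ q.asHomogeneousIdeal → b ∉ (e.hom q).asHomogeneousIdeal :=
    fun q b hb h => hb ((mem_e_iff hd hdeg he q b).mp h)
  have hh' : ∀ q : Proj 𝒜, ∀ b, b ∉ (e.hom q).asHomogeneousIdeal → φ b ∉ q.asHomogeneousIdeal :=
    fun q b hb h => hb ((mem_e_iff hd hdeg he q b).mpr h)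
  constructor
  · intro s s' h
    refine GrModX.ext_val ℬ 𝒩 fun ⟨x, hx⟩ => ?_
    obtain ⟨p, rfl⟩ := e.hom.surjective x
    refine sub_eq_zero.mp ((locModVer_bij hd hdeg v hv hvdeg p (e.hom p) (hh' p) (hh p) n).1 _
      (sub_mem ((show GrMod.sect ℬ 𝒩 n (op U) from s).1 ⟨_, hx⟩).2
        ((show GrMod.sect ℬ 𝒩 n (op U) from s').1 ⟨_, hx⟩).2) ?_)
    rw [map_sub]
    exact sub_eq_zero.mpr (congrArg (fun t : GrMod.sect 𝒜 ℳ (n * d) (op (e.hom ⁻¹ᵁ U)) => (t.1 ⟨p, hx⟩).1) h)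
  · intro t
    let T : GrMod.sect 𝒜 ℳ (n * d) (op (e.hom ⁻¹ᵁ U)) := t
    have hex : ∀ x : U, ∃ q : GrMod.tildeAt ℬ 𝒩 n x.1, ∀ (p : Proj 𝒜) (hp : e.hom p = x.1),
        locModVer v p (e.hom p) (hh' p) (cast (congrArg (GrMod.LocMod ℬ (M := N)) hp.symm) q.1) =
          (T.1 ⟨p, show e.hom p ∈ U from hp.symm ▸ x.2⟩).1 := by
      rintro ⟨x, hx⟩
      obtain ⟨p₀, rfl⟩ := e.hom.surjective x
      obtain ⟨q, hq, hqr⟩ := (locModVer_bij hd hdeg v hv hvdeg p₀ (e.hom p₀) (hh' p₀) (hh p₀) n).2 _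
        (T.1 ⟨p₀, hx⟩).2
      refine ⟨⟨q, hq⟩, fun p hp => ?_⟩
      obtain rfl : p = p₀ := e.hom.isOpenEmbedding.injective hp
      exact hqr
    choose q hq using hex
    have hval : ∀ (p : Proj 𝒜) (hp : e.hom p ∈ U),
        locModVer v p (e.hom p) (hh' p) (q ⟨e.hom p, hp⟩).1 = (T.1 ⟨p, hp⟩).1 := fun p hp => hq ⟨e.hom p, hp⟩ p rfl
    refine ⟨(⟨q, fun x => ?_⟩ : GrMod.sect ℬ 𝒩 n (op U)),
      Subtype.ext (funext fun y => Subtype.ext (hval y.1 y.2))⟩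
    obtain ⟨x, hx⟩ := x
    obtain ⟨p₀, rfl⟩ := e.hom.surjective x
    obtain ⟨V, hpV, iV, i, j, b, t', ht', hij, hfr⟩ := T.2 ⟨p₀, hx⟩
    obtain ⟨c, s, hs, hsx, a, ha, hqe⟩ := GrModX.exists_repr_tildeAt ℬ 𝒩 n _ (q ⟨e.hom p₀, hx⟩).2
    have h0 : locModVer v p₀ (e.hom p₀) (hh' p₀) (LocalizedModule.mk a ⟨s, hsx⟩) = (T.1 ⟨p₀, hx⟩).1 :=
      (congrArg (locModVer v p₀ (e.hom p₀) (hh' p₀)) hqe.symm).trans (hval p₀ hx)
    rw [locModVer_mk, show (T.1 ⟨p₀, hx⟩).1 = _ from hfr ⟨p₀, hpV⟩, LocalizedModule.mk_eq] at h0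
    obtain ⟨⟨u, hu⟩, hu'⟩ := h0
    let V' : (Proj 𝒜).Opens := V ⊓ ProjectiveSpectrum.basicOpen 𝒜 u ⊓ ProjectiveSpectrum.basicOpen 𝒜 (φ s)
    have hV'U : e.hom ''ᵁ V' ≤ U := by
      rintro _ ⟨z, hz, rfl⟩
      exact iV.le hz.1.1
    obtain ⟨i', hi', ha'⟩ : ∃ i' : ℕ, ((i' : ℤ) = c + n ∨ a = 0) ∧ a ∈ 𝒩 i' := by
      rcases ha with rfl | ⟨i', hi', ha⟩
      · exact ⟨0, Or.inr rfl, zero_mem _⟩
      · exact ⟨i', Or.inl hi', ha⟩
    refine ⟨e.hom ''ᵁ V', ⟨p₀, ⟨⟨hpV, hu⟩, hh' p₀ s hsx⟩, rfl⟩, homOfLE hV'U, i', c, ⟨a, ha'⟩, ⟨s, hs⟩, ?_, hi', ?_⟩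
    · rintro ⟨_, z, hz, rfl⟩
      exact hh z s hz.2
    · rintro ⟨_, z, hz, rfl⟩
      have hzx : (s : B) ∉ (e.hom z).asHomogeneousIdeal := hh z s hz.2
      refine sub_eq_zero.mp ((locModVer_bij hd hdeg v hv hvdeg z (e.hom z) (hh' z) (hh z) n).1 _
        (sub_mem (q ⟨e.hom z, _⟩).2 (GrModX.mk_mem_tildeAt ℬ 𝒩 n _ hs hzx ha)) ?_)
      rw [map_sub, sub_eq_zero]
      refine (hval z (hV'U ⟨z, hz, rfl⟩)).trans ?_
      refine (hfr ⟨z, hz.1.1⟩).trans ?_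
      rw [locModVer_mk, LocalizedModule.mk_eq]
      exact ⟨⟨u, hz.1.2⟩, hu'.symm⟩

include hd hdeg he hv hvdeg in
/-- The Veronese comparison of modules. -/
theorem nonempty_iso_veronese :
    Nonempty (GrMod.tilde 𝒜 ℳ (n * d) ≅ (Scheme.Modules.pullback e.hom).obj (GrMod.tilde ℬ 𝒩 n)) := by
  have := isIso_adjunct_of_bijective e.hom (verHom hd hdeg he v hvdeg n)
    fun U _ => verHom_bijective hd hdeg he v hv hvdeg n U
  exact ⟨(asIso (((Scheme.Modules.pullbackPushforwardAdjunction e.hom).homEquiv _ _).symm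
    (verHom hd hdeg he v hvdeg n))).symm⟩

end Groth.Agent.TwAdj35
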