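import Groth.Agent.QCoh.PullbackBC
import Groth.Agent.QCoh.Support

/-!
When the inverse image adjunct of a map into a direct image is an isomorphism, by base change of sections.
-/

universe u

set_option backward.isDefEq.respectTransparency false
set_option backward.isDefEq.respectTransparency.types false

open CategoryTheory CategoryTheory.Limits AlgebraicGeometry TopologicalSpace Opposite

noncomputable section

namespace Groth.Agent.TwAdj35

/-- A map of quasi-coherent modules bijective on an affine cover is an isomorphism (as in `Nrm34`). -/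
theorem isIso_of_bijective_cover {Z : Scheme.{u}} {M N : Z.Modules} (hM : Coh.IsQCoh M)
    (hN : Coh.IsQCoh N) (φ : M ⟶ N) (W : Z → Z.Opens)
    (hW : ∀ z, IsAffineOpen (W z)) (hcov : ∀ z, z ∈ W z)
    (h : ∀ z, Function.Bijective (φ.app (W z))) : IsIso φ := by
  have hz : ∀ {P : Z.Modules}, Coh.IsQCoh P → (∀ z (s : Γ(P, W z)), s = 0) → IsZero P :=
    fun hP hP0 => QCoh.isZero_of_cover hP W hW (fun z => ⟨z, hcov z⟩)
      fun z => subsingleton_of_forall_eq 0 (hP0 z)
  have : Mono φ := by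
    refine Preadditive.mono_of_kernel_zero ?_
    refine IsZero.eq_of_src (hz (QCoh.isQCoh_kernel hM hN φ) fun z s => ?_) _ _
    refine QCoh.app_injective (kernel.ι φ) (W z) ((h z).1 ?_)
    have := congrArg (fun ψ => Scheme.Modules.Hom.app ψ (W z) s) (kernel.condition φ)
    rw [map_zero, map_zero]
    exact this
  have : Epi φ := by
    refine Preadditive.epi_of_cokernel_zero ?_
    refine IsZero.eq_of_tgt (hz (QCoh.isQCoh_cokernel hM hN φ) fun z s => ?_) _ _
    obtain ⟨y, rfl⟩ := QCoh.app_surjective_of_epi hN (QCoh.isQCoh_cokernel hM hN φ)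
      (cokernel.π φ) (hW z) s
    obtain ⟨w, rfl⟩ := (h z).2 y
    exact congrArg (fun ψ => Scheme.Modules.Hom.app ψ (W z) w) (cokernel.condition φ)
  exact isIso_of_mono_of_epi φ

variable {X Y : Scheme.{u}} (f : X ⟶ Y) {F : Y.Modules} {G : X.Modules}
  (φ : F ⟶ (Scheme.Modules.pushforward f).obj G)

/-- The universal property saying that the sections of the target over `f⁻¹U` are the base change. -/
def IsSectBC (U : Y.Opens) : Prop :=
  ∀ (Q : Type u) [AddCommGroup Q] [Module Γ(X, f ⁻¹ᵁ U) Q] (h : Γ(F, U) →+ Q),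
    (∀ (r : Γ(Y, U)) x, h (r • x) = f.app U r • h x) →
      ∃ L : Γ(G, f ⁻¹ᵁ U) →ₗ[Γ(X, f ⁻¹ᵁ U)] Q, (∀ x, L (φ.app U x) = h x) ∧
        ∀ L' : Γ(G, f ⁻¹ᵁ U) →ₗ[Γ(X, f ⁻¹ᵁ U)] Q, (∀ x, L' (φ.app U x) = h x) → L' = L

theorem app_adjunct (U : Y.Opens) (x : Γ(F, U)) :
    (((Scheme.Modules.pullbackPushforwardAdjunction f).homEquiv F G).symm φ).app (f ⁻¹ᵁ U)
      (((Scheme.Modules.pullbackPushforwardAdjunction f).unit.app F).app U x) = φ.app U x := by
  have h := congr($((Scheme.Modules.pullbackPushforwardAdjunction f).homEquiv F G |>.apply_symm_apply φ).app U x)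
  rw [Adjunction.homEquiv_unit] at h
  exact h

/-- The adjunct is invertible if the sections over an affine cover are base changes. -/
theorem isIso_adjunct_of_isSectBC (hF : Coh.IsQCoh F) (hG : Coh.IsQCoh G) {ι : Type*} (U : ι → Y.Opens)
    (hU : ∀ i, IsAffineOpen (U i)) (hfU : ∀ i, IsAffineOpen (f ⁻¹ᵁ U i)) (hcov : ∀ x : X, ∃ i, f x ∈ U i)
    (h : ∀ i, IsSectBC f φ (U i)) :
    IsIso (((Scheme.Modules.pullbackPushforwardAdjunction f).homEquiv F G).symm φ) := by
  choose i hi using hcov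
  refine isIso_of_bijective_cover (QCoh.isQCoh_pullback f hF) hG _ (fun x => f ⁻¹ᵁ U (i x))
    (fun x => hfU _) hi fun x => ?_
  set V := U (i x)
  letI := (f.app V).hom.toAlgebra
  let P := (Scheme.Modules.pullback f).obj F
  letI : Module Γ(Y, V) Γ(P, f ⁻¹ᵁ V) := Module.compHom _ (f.app V).hom
  have : IsScalarTower Γ(Y, V) Γ(X, f ⁻¹ᵁ V) Γ(P, f ⁻¹ᵁ V) :=
    IsScalarTower.of_algebraMap_smul fun r z => rfl
  let η := ((Scheme.Modules.pullbackPushforwardAdjunction f).unit.app F).app V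
  let l : Γ(F, V) →ₗ[Γ(Y, V)] Γ(P, f ⁻¹ᵁ V) :=
    { toFun := η, map_add' := map_add _, map_smul' := fun r x => Scheme.Modules.Hom.app_smul _ _ _ }
  have hbc := QCoh.isBaseChange_pullback (hU _) f (hfU _) hF (le_refl (f ⁻¹ᵁ V))
    (fun r => by rw [← f.app_eq_appLE]; rfl) l fun x => (QCoh.map_id' _ _).symm
  let a := ((Scheme.Modules.pullbackPushforwardAdjunction f).homEquiv F G).symm φ
  let T : Γ(P, f ⁻¹ᵁ V) →ₗ[Γ(X, f ⁻¹ᵁ V)] Γ(G, f ⁻¹ᵁ V) :=
    { toFun := a.app (f ⁻¹ᵁ V), map_add' := map_add _, map_smul' := fun r y => Scheme.Modules.Hom.app_smul _ _ _ }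
  have hT : ∀ x, T (η x) = φ.app V x := app_adjunct f φ V
  obtain ⟨L, hL, -⟩ := h (i x) Γ(P, f ⁻¹ᵁ V) (AddMonoidHom.mk' (fun x => η x) (map_add _))
    fun r x => Scheme.Modules.Hom.app_smul _ _ _
  obtain ⟨L₀, -, huniq⟩ := h (i x) Γ(G, f ⁻¹ᵁ V) (AddMonoidHom.mk' (fun x => φ.app V x) (map_add _))
    fun r x => Scheme.Modules.Hom.app_smul _ _ _
  have e1 : T.comp L = LinearMap.id :=
    (huniq _ fun x => by rw [LinearMap.comp_apply, hL]; exact hT x).trans
      (huniq _ fun x => rfl).symm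
  have e2 : ∀ y, L (T y) = y := fun y =>
    hbc.inductionOn y (fun y => L (T y) = y) (by rw [map_zero, map_zero])
      (fun x => (congrArg L (hT x)).trans (hL x))
      (fun s z hz => by rw [T.map_smul, L.map_smul, hz]) fun z z' hz hz' => by rw [map_add, map_add, hz, hz']
  exact ⟨Function.LeftInverse.injective e2, fun y => ⟨L y, LinearMap.congr_fun e1 y⟩⟩

end Groth.Agent.TwAdj35
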